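import Mathlib
import Cfsg.Agent.Base
import Cfsg.Agent.Lib.GL.Simple

/-!
Subgroups of `V ≃ₗ V`: membership of maps, subspace stabilisers, transvections, and the bridge to
matrix groups.
-/

set_option autoImplicit false

namespace H97

open Module Cfsg

section General

variable {F V : Type*} [Field F] [AddCommGroup V] [Module F V]

/-- The map `f` is realised by an element of `M`. -/
def Has (M : Subgroup (V ≃ₗ[F] V)) (f : V → V) : Prop := ∃ g ∈ M, ∀ x, g x = f x

theorem le_inv_apply (g : V ≃ₗ[F] V) (x : V) : g⁻¹ x = g.symm x := rfl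

theorem le_mul_apply (g h : V ≃ₗ[F] V) (x : V) : (g * h) x = g (h x) := rfl

theorem le_apply_inv (g : V ≃ₗ[F] V) (x : V) : g (g⁻¹ x) = x := g.apply_symm_apply x

theorem le_inv_apply_apply (g : V ≃ₗ[F] V) (x : V) : g⁻¹ (g x) = x := g.symm_apply_apply x

variable {M : Subgroup (V ≃ₗ[F] V)}

theorem has_of_mem {g : V ≃ₗ[F] V} (hg : g ∈ M) : Has M g := ⟨g, hg, fun _ => rfl⟩

theorem Has.congr {f f' : V → V} (h : Has M f) (e : ∀ x, f x = f' x) : Has M f' := by
  obtain ⟨g, hg, hgf⟩ := h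
  exact ⟨g, hg, fun x => (hgf x).trans (e x)⟩

theorem Has.mono {N : Subgroup (V ≃ₗ[F] V)} {f : V → V} (h : Has M f) (hMN : M ≤ N) : Has N f := by
  obtain ⟨g, hg, hgf⟩ := h
  exact ⟨g, hMN hg, hgf⟩

theorem Has.mem {f : V → V} (h : Has M f) {g : V ≃ₗ[F] V} (e : ∀ x, g x = f x) : g ∈ M := by
  obtain ⟨g', hg, hgf⟩ := h
  have : g = g' := LinearEquiv.ext fun x => (e x).trans (hgf x).symm
  exact this ▸ hg

theorem has_id : Has M (fun x => x) := ⟨1, M.one_mem, fun _ => rfl⟩

theorem Has.comp {f f' : V → V} (h : Has M f) (h' : Has M f') : Has M (fun x => f (f' x)) := by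
  obtain ⟨g, hg, hgf⟩ := h
  obtain ⟨g', hg', hgf'⟩ := h'
  exact ⟨g * g', M.mul_mem hg hg', fun x => by rw [le_mul_apply, hgf, hgf']⟩

theorem Has.inv {f f' : V → V} (h : Has M f) (e : ∀ x, f (f' x) = x) : Has M f' := by
  obtain ⟨g, hg, hgf⟩ := h
  refine ⟨g⁻¹, M.inv_mem hg, fun x => ?_⟩
  rw [le_inv_apply, LinearEquiv.symm_apply_eq, hgf, e]

theorem Has.conj {f : V → V} (h : Has M f) {g : V ≃ₗ[F] V} (hg : g ∈ M) :
    Has M (fun x => g (f (g⁻¹ x))) :=
  (has_of_mem hg).comp (h.comp (has_of_mem (M.inv_mem hg)))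

/-- The stabiliser of a subspace. -/
def stab (W : Submodule F V) : Subgroup (V ≃ₗ[F] V) where
  carrier := {g | ∀ v, v ∈ W ↔ g v ∈ W}
  mul_mem' {a b} ha hb v := (hb v).trans (ha _)
  one_mem' _ := Iff.rfl
  inv_mem' {a} ha v := by
    have := ha (a⁻¹ v)
    rw [le_apply_inv] at this
    exact this.symm

theorem mem_stab {W : Submodule F V} {g : V ≃ₗ[F] V} : g ∈ stab W ↔ ∀ v, v ∈ W ↔ g v ∈ W := Iff.rfl

theorem mem_stab_iff_map {W : Submodule F V} {g : V ≃ₗ[F] V} :
    g ∈ stab W ↔ W.map (g : V →ₗ[F] V) = W := by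
  constructor
  · intro h
    ext v
    constructor
    · rintro ⟨w, hw, rfl⟩
      exact (h w).1 hw
    · intro hv
      exact ⟨g⁻¹ v, (h _).2 (by rwa [le_apply_inv]), le_apply_inv g v⟩
  · intro h v
    constructor
    · intro hv
      rw [← h]
      exact ⟨v, hv, rfl⟩
    · intro hv
      rw [← h] at hv
      obtain ⟨w, hw, hwv⟩ := hv
      exact (g.injective hwv) ▸ hw

theorem mem_stab_of_maps [FiniteDimensional F V] {W : Submodule F V} {g : V ≃ₗ[F] V}
    (h : ∀ v ∈ W, g v ∈ W) : g ∈ stab W := by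
  rw [mem_stab_iff_map]
  apply Submodule.eq_of_le_of_finrank_eq
  · rintro _ ⟨v, hv, rfl⟩
    exact h v hv
  · exact LinearEquiv.finrank_map_eq g W

theorem exists_not_maps [FiniteDimensional F V] {W : Submodule F V} {g : V ≃ₗ[F] V}
    (h : g ∉ stab W) : ∃ v ∈ W, g v ∉ W := by
  by_contra hc
  push Not at hc
  exact h (mem_stab_of_maps hc)

variable (F V) in
/-- The special linear group of `V`. -/
noncomputable def SLV : Subgroup (V ≃ₗ[F] V) := (LinearEquiv.det : (V ≃ₗ[F] V) →* Fˣ).ker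

theorem mem_SLV {g : V ≃ₗ[F] V} : g ∈ SLV F V ↔ LinearMap.det (g : V →ₗ[F] V) = 1 := by
  rw [SLV, MonoidHom.mem_ker, ← Units.val_inj, LinearEquiv.coe_det, Units.val_one]

instance SLV_normal : (SLV F V).Normal := by unfold SLV; infer_instance

/-! ### functionals -/

theorem exists_dual_of_notMem (H : Submodule F V) {u : V} (hu : u ∉ H) (c : F) :
    ∃ φ : Dual F V, (∀ h ∈ H, φ h = 0) ∧ φ u = c := by
  obtain ⟨f, hf, hfH⟩ := Submodule.exists_dual_map_eq_bot_of_notMem hu inferInstance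
  refine ⟨(c * (f u)⁻¹) • f, fun h hh => ?_, ?_⟩
  · have : f h ∈ H.map f := Submodule.mem_map_of_mem hh
    rw [hfH] at this
    simp [(Submodule.mem_bot F).mp this]
  · simp [hf]

theorem exists_dual_of_ne_zero {u : V} (hu : u ≠ 0) (c : F) : ∃ φ : Dual F V, φ u = c := by
  obtain ⟨φ, -, h⟩ := exists_dual_of_notMem (⊥ : Submodule F V) (by simpa using hu) c
  exact ⟨φ, h⟩

/-- a functional killing `H` and `x`, with prescribed value at `u ∉ H + F x` -/
theorem exists_dual_of_notMem_sup (H : Submodule F V) {x u : V} (hu : u ∉ H ⊔ F ∙ x) (c : F) :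
    ∃ φ : Dual F V, (∀ h ∈ H, φ h = 0) ∧ φ x = 0 ∧ φ u = c := by
  obtain ⟨φ, h1, h2⟩ := exists_dual_of_notMem _ hu c
  exact ⟨φ, fun h hh => h1 h (Submodule.mem_sup_left hh),
    h1 x (Submodule.mem_sup_right (Submodule.mem_span_singleton_self x)), h2⟩

theorem exists_dual_of_notMem_span {x u : V} (hu : u ∉ F ∙ x) (c : F) :
    ∃ φ : Dual F V, φ x = 0 ∧ φ u = c := by
  obtain ⟨φ, h1, h2⟩ := exists_dual_of_notMem _ hu c
  exact ⟨φ, h1 x (Submodule.mem_span_singleton_self x), h2⟩

/-! ### transvections -/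

/-- `M` contains the map `x ↦ x + φ x • u`. -/
def HasT (M : Subgroup (V ≃ₗ[F] V)) (u : V) (φ : Dual F V) : Prop :=
  Has M (fun x => x + φ x • u)

theorem HasT.elim {u : V} {φ : Dual F V} (h : HasT M u φ) : ∃ g ∈ M, ∀ x, g x = x + φ x • u := h

theorem HasT.mono {N : Subgroup (V ≃ₗ[F] V)} {u : V} {φ : Dual F V} (h : HasT M u φ) (hMN : M ≤ N) :
    HasT N u φ := Has.mono h hMN

theorem hasT_zero_left (φ : Dual F V) : HasT M 0 φ := has_id.congr fun x => by simp

theorem hasT_zero_right (u : V) : HasT M u 0 := has_id.congr fun x => by simp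

theorem hasT_smul_iff (c : F) (u : V) (φ : Dual F V) : HasT M (c • u) φ ↔ HasT M u (c • φ) := by
  have : (fun x => x + φ x • c • u) = (fun x => x + (c • φ) x • u) := by
    funext x; simp [smul_smul, mul_comm]
  unfold HasT
  rw [this]

theorem HasT.add_right {u : V} {φ ψ : Dual F V} (h : HasT M u φ) (h' : HasT M u ψ) (hu : φ u = 0) :
    HasT M u (φ + ψ) :=
  (Has.comp h h').congr fun x => by
    simp only [map_add, map_smul, hu, smul_zero, add_zero, LinearMap.add_apply]; module

theorem HasT.add_left {u v : V} {φ : Dual F V} (h : HasT M u φ) (h' : HasT M v φ) (hv : φ v = 0) :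
    HasT M (u + v) φ :=
  (Has.comp h h').congr fun x => by
    simp only [map_add, map_smul, hv, smul_zero, add_zero]; module

theorem HasT.neg_right {u : V} {φ : Dual F V} (h : HasT M u φ) (hu : φ u = 0) : HasT M u (-φ) :=
  Has.inv h fun x => by
    simp only [map_add, map_smul, hu, smul_zero, add_zero, LinearMap.neg_apply]; module

theorem HasT.neg_left {u : V} {φ : Dual F V} (h : HasT M u φ) (hu : φ u = 0) : HasT M (-u) φ :=
  (h.neg_right hu).congr fun x => by simp

theorem HasT.sub_right {u : V} {φ ψ : Dual F V} (h : HasT M u φ) (h' : HasT M u ψ) (hu : φ u = 0)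
    (hu' : ψ u = 0) : HasT M u (φ - ψ) := by
  rw [sub_eq_add_neg]; exact h.add_right (h'.neg_right hu') hu

theorem HasT.sub_left {u v : V} {φ : Dual F V} (h : HasT M u φ) (h' : HasT M v φ) (hv : φ v = 0) :
    HasT M (u - v) φ := by
  rw [sub_eq_add_neg]; exact h.add_left (h'.neg_left hv) (by simp [hv])

theorem HasT.conj {u : V} {φ : Dual F V} (h : HasT M u φ) {g : V ≃ₗ[F] V} (hg : g ∈ M) :
    HasT M (g u) (φ ∘ₗ (g⁻¹ : V ≃ₗ[F] V)) :=
  (Has.conj h hg).congr fun x => by
    simp only [map_add, map_smul, le_apply_inv, LinearMap.comp_apply, LinearEquiv.coe_coe]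

/-- conjugating, with the new functional given implicitly -/
theorem HasT.conj' {u : V} {φ ψ : Dual F V} (h : HasT M u φ) {g : V ≃ₗ[F] V} (hg : g ∈ M)
    (e : ∀ x, ψ (g x) = φ x) : HasT M (g u) ψ := by
  have : ψ = φ ∘ₗ (g⁻¹ : V ≃ₗ[F] V) := by
    ext x
    simp only [LinearMap.comp_apply, LinearEquiv.coe_coe, ← e, le_apply_inv]
  rw [this]; exact h.conj hg

/-- The commutator of two transvections `T(u, φ)`, `T(v, ψ)` with `ψ u = 0`. -/
theorem HasT.comm {u v : V} {φ ψ : Dual F V} (h : HasT M u φ) (h' : HasT M v ψ) (hu : φ u = 0)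
    (hv : ψ v = 0) (huv : ψ u = 0) : HasT M u (φ v • ψ) :=
  (Has.comp h (Has.comp h' (Has.comp (h.neg_right hu) (h'.neg_right hv)))).congr fun x => by
    simp only [map_add, map_smul, hu, hv, huv, add_zero, LinearMap.neg_apply,
      LinearMap.smul_apply, smul_eq_mul, mul_zero]
    module

theorem hasT_SLV {u : V} {φ : Dual F V} (h : φ u = 0) : HasT (SLV F V) u φ :=
  ⟨LinearEquiv.transvection h, by
    rw [SLV, MonoidHom.mem_ker]; exact LinearEquiv.transvection.det_eq_one h, fun _ => rfl⟩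

theorem hasT_stab_of_mem [FiniteDimensional F V] {W : Submodule F V} {u : V} {φ : Dual F V}
    (h : φ u = 0) (hu : u ∈ W) : HasT (stab W ⊓ SLV F V) u φ := by
  obtain ⟨g, hg, e⟩ := (hasT_SLV h).elim
  refine ⟨g, ⟨mem_stab_of_maps fun v hv => ?_, hg⟩, e⟩
  rw [e]; exact W.add_mem hv (W.smul_mem _ hu)

theorem hasT_stab_of_ker [FiniteDimensional F V] {W : Submodule F V} {u : V} {φ : Dual F V}
    (h : φ u = 0) (hu : ∀ w ∈ W, φ w = 0) : HasT (stab W ⊓ SLV F V) u φ := by
  obtain ⟨g, hg, e⟩ := (hasT_SLV h).elim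
  refine ⟨g, ⟨mem_stab_of_maps fun v hv => ?_, hg⟩, e⟩
  rw [e]; simpa [hu v hv] using hv

/-- The vectors all of whose transvections lie in `M`. -/
def cen (M : Subgroup (V ≃ₗ[F] V)) : Submodule F V where
  carrier := {u | ∀ φ : Dual F V, φ u = 0 → HasT M u φ}
  zero_mem' φ _ := hasT_zero_left φ
  smul_mem' c u hu φ h := by
    by_cases hc : c = 0
    · subst hc; simpa using hasT_zero_left φ
    rw [hasT_smul_iff]
    apply hu
    simpa [hc] using h
  add_mem' {u v} hu hv := by
    by_cases h : v ∈ F ∙ u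
    · obtain ⟨a, rfl⟩ := Submodule.mem_span_singleton.1 h
      intro φ hφ
      have e : u + a • u = (1 + a) • u := by module
      rw [e] at hφ ⊢
      by_cases hc : 1 + a = 0
      · rw [hc]; simpa using hasT_zero_left φ
      rw [hasT_smul_iff]
      apply hu
      simpa [hc] using hφ
    · obtain ⟨ψ, h1, h2⟩ := exists_dual_of_notMem_span h (1 : F)
      obtain ⟨g, hg, e⟩ := (hu ψ h1).elim
      intro φ hφ
      have h3 : g v = u + v := by rw [e, h2, one_smul, add_comm]
      rw [← h3]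
      refine (hv (φ ∘ₗ (g : V →ₗ[F] V)) ?_).conj' hg fun x => rfl
      simpa [h3] using hφ

theorem mem_cen {u : V} : u ∈ cen M ↔ ∀ φ : Dual F V, φ u = 0 → HasT M u φ := Iff.rfl

theorem cen_apply {u : V} (hu : u ∈ cen M) {g : V ≃ₗ[F] V} (hg : g ∈ M) : g u ∈ cen M :=
  fun φ hφ => (hu (φ ∘ₗ (g : V →ₗ[F] V)) hφ).conj' hg fun _ => rfl

/-- A subgroup containing the elementary transvections of a basis contains `SL`. -/
theorem SLV_le_of_basis {ι : Type*} [Fintype ι] [DecidableEq ι] (b : Basis ι F V)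
    (h : ∀ i j, i ≠ j → ∀ c : F, HasT M (b i) (c • b.coord j)) : SLV F V ≤ M := by
  intro g hg
  let A : Matrix.SpecialLinearGroup ι F := ⟨LinearMap.toMatrix b b g, by
    rw [LinearMap.det_toMatrix]; exact mem_SLV.1 hg⟩
  have key : ∀ A : Matrix.SpecialLinearGroup ι F, Has M (Matrix.toLin b b A.1) := by
    intro A
    refine H10.SL_transvection_induction (fun A => Has M (Matrix.toLin b b A.1)) ?_ ?_ ?_ A
    · exact has_id.congr fun x => by simp
    · intro i j hij c
      refine (h i j hij c).congr fun x => ?_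
      have : Matrix.toLin b b (Matrix.SpecialLinearGroup.transvection hij c).1 =
          LinearMap.id + (c • b.coord j).smulRight (b i) := by
        apply b.ext
        intro k
        change Matrix.toLin b b (Matrix.transvection i j c) (b k) = _
        simp only [Matrix.transvection, map_add, Matrix.toLin_one, LinearMap.add_apply,
          LinearMap.id_apply, Matrix.toLin_self, LinearMap.smulRight_apply, LinearMap.smul_apply,
          Basis.coord_apply, Basis.repr_self, smul_eq_mul, add_right_inj]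
        by_cases hk : j = k
        · subst hk
          rw [Finset.sum_eq_single i]
          · simp
          · intro l _ hl
            simp [Matrix.single, Ne.symm hl]
          · simp
        · simp [Matrix.single, hk]
      rw [this]
      simp
    · intro A B hA hB
      refine (hA.comp hB).congr fun x => ?_
      rw [Matrix.SpecialLinearGroup.coe_mul, Matrix.toLin_mul b b b]
      rfl
  refine (key A).mem fun x => ?_
  simp [A]

theorem SLV_le_of_all [FiniteDimensional F V]
    (h : ∀ (u : V) (φ : Dual F V), φ u = 0 → HasT M u φ) : SLV F V ≤ M := by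
  classical
  refine SLV_le_of_basis (Module.finBasis F V) fun i j hij c => h _ _ ?_
  simp [Ne.symm hij]

theorem SLV_le_of_cen [FiniteDimensional F V] (h : cen M = ⊤) : SLV F V ≤ M :=
  SLV_le_of_all fun u => (h ▸ Submodule.mem_top : u ∈ cen M)

end General

/-! ### the bridge to matrices -/

section Bridge

open scoped Matrix MatrixGroups

variable {ι : Type} [Fintype ι] [DecidableEq ι] {F : Type*} [Field F]

/-- Invertible matrices as linear automorphisms of the space of column vectors. -/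
noncomputable def toLE (ι : Type) [Fintype ι] [DecidableEq ι] (F : Type*) [Field F] :
    GL ι F ≃* ((ι → F) ≃ₗ[F] (ι → F)) :=
  Matrix.GeneralLinearGroup.toLin.trans (LinearMap.GeneralLinearGroup.generalLinearEquiv F (ι → F))

theorem toLE_apply (g : GL ι F) (v : ι → F) : toLE ι F g v = (g : Matrix ι ι F) *ᵥ v := rfl

theorem toLE_coe (g : GL ι F) :
    (toLE ι F g : (ι → F) →ₗ[F] (ι → F)) = Matrix.toLin' (g : Matrix ι ι F) := by
  ext v : 1; rfl

/-- The pull-back of a group of linear automorphisms to a matrix group. -/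
noncomputable def pull (M : Subgroup ((ι → F) ≃ₗ[F] (ι → F))) : Subgroup (GL ι F) :=
  M.comap (toLE ι F).toMonoidHom

theorem mem_pull {M : Subgroup ((ι → F) ≃ₗ[F] (ι → F))} {g : GL ι F} :
    g ∈ pull M ↔ toLE ι F g ∈ M := Iff.rfl

theorem pull_inf (M N : Subgroup ((ι → F) ≃ₗ[F] (ι → F))) : pull (M ⊓ N) = pull M ⊓ pull N := rfl

theorem pull_le_pull {M N : Subgroup ((ι → F) ≃ₗ[F] (ι → F))} : pull M ≤ pull N ↔ M ≤ N :=
  Subgroup.comap_le_comap_of_surjective (toLE ι F).surjective

theorem pull_lt_pull {M N : Subgroup ((ι → F) ≃ₗ[F] (ι → F))} : pull M < pull N ↔ M < N := by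
  rw [lt_iff_le_not_ge, lt_iff_le_not_ge, pull_le_pull, pull_le_pull]

theorem pull_surjective (K : Subgroup (GL ι F)) : ∃ M, K = pull M :=
  ⟨K.map (toLE ι F).toMonoidHom, by
    rw [pull, Subgroup.comap_map_eq_self_of_injective (toLE ι F).injective]⟩

theorem isMaximalIn_pull {G H : Subgroup ((ι → F) ≃ₗ[F] (ι → F))} (h : Geo.IsMaximalIn G H) :
    Geo.IsMaximalIn (pull G) (pull H) := by
  refine ⟨pull_lt_pull.2 h.1, fun K h1 h2 => ?_⟩
  obtain ⟨M, rfl⟩ := pull_surjective K
  rcases h.2 M (pull_le_pull.1 h1) (pull_le_pull.1 h2) with h3 | h3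
  · exact Or.inl (by rw [h3])
  · exact Or.inr (by rw [h3])

theorem exists_between_pull {G H : Subgroup ((ι → F) ≃ₗ[F] (ι → F))} (h : ∃ K, H < K ∧ K < G) :
    ∃ K, pull H < K ∧ K < pull G := by
  obtain ⟨K, h1, h2⟩ := h
  exact ⟨pull K, pull_lt_pull.2 h1, pull_lt_pull.2 h2⟩

theorem subspaceStabilizer_eq (W : Submodule F (ι → F)) :
    Geo.subspaceStabilizer W = pull (stab W) := rfl

theorem specialLinear_eq : Geo.specialLinear ι F = pull (SLV F (ι → F)) := by
  ext g
  rw [mem_pull, mem_SLV, toLE_coe, LinearMap.det_toLin', Geo.specialLinear, MonoidHom.mem_ker,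
    ← Units.val_inj, Matrix.GeneralLinearGroup.val_det_apply, Units.val_one]

end Bridge

/-- A criterion for maximality. -/
theorem isMaximalIn_of {G : Type*} [Group G] {K H : Subgroup G} (hle : H ≤ K) (hne : ¬ K ≤ H)
    (h : ∀ M : Subgroup G, H ≤ M → M ≤ K → (∃ g ∈ M, g ∉ H) → K ≤ M) : Geo.IsMaximalIn K H := by
  refine ⟨lt_of_le_not_ge hle hne, fun M h1 h2 => ?_⟩
  by_cases h3 : M ≤ H
  · exact Or.inl (le_antisymm h3 h1)
  · right
    refine le_antisymm h2 (h M h1 h2 ?_)
    by_contra hc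
    push Not at hc
    exact h3 hc

theorem exists_between_of {G : Type*} [Group G] {L H : Subgroup G} (K : Subgroup G) (h1 : H ≤ K)
    (h2 : K ≤ L) (h3 : ∃ g ∈ K, g ∉ H) (h4 : ∃ g ∈ L, g ∉ K) : ∃ K, H < K ∧ K < L := by
  obtain ⟨g, hg, hg'⟩ := h3
  obtain ⟨g', hg2, hg2'⟩ := h4
  exact ⟨K, lt_of_le_not_ge h1 fun h => hg' (h hg), lt_of_le_not_ge h2 fun h => hg2' (h hg2)⟩

end H97
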