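import Mathlib
import Cfsg.Agent.Base
import Cfsg.Agent.Lib.ClassMax.Basic
import Cfsg.Agent.Lib.Forms.Witt

/-!
The unipotent radicals `X_d` of point stabilisers in a classical group and the group `E` they
generate, for pseudo-quadratic data.
-/

set_option autoImplicit false
set_option linter.unusedSectionVars false

namespace H97

open Module Cfsg H28

variable {F V : Type*} [Field F] [AddCommGroup V] [Module F V] {σ : F →+* F} (P : PQ F V σ)

/-- The general element of the unipotent radical of the stabiliser of the singular vector `d`. -/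
def eu (d w : V) (c : F) : V →ₗ[F] V :=
  LinearMap.id + (P.B w - (P.ε * c) • P.B d).smulRight d - (P.B d).smulRight (P.ε • w)

theorem eu_apply (d w : V) (c : F) (x : V) :
    eu P d w c x = x + (P.B w x - P.ε * c * P.B d x) • d - (P.ε * P.B d x) • w := by
  simp only [eu, LinearMap.sub_apply, LinearMap.add_apply, LinearMap.id_apply,
    LinearMap.smulRight_apply, LinearMap.smul_apply, smul_eq_mul]
  module

variable {P}

theorem B_smul_left (a : F) (x y : V) : P.B (a • x) y = σ a * P.B x y := by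
  simp [LinearMap.map_smulₛₗ]

theorem B_ne_zero_symm {x y : V} (h : P.B x y ≠ 0) : P.B y x ≠ 0 := fun h0 => h (P.eq_zero_symm h0)

theorem eu_comp {d w w' : V} (hd : P.B d d = 0) (hw : P.B d w = 0) (hw' : P.B d w' = 0) (c c' : F)
    (x : V) : eu P d w c (eu P d w' c' x) = eu P d (w + w') (c + c' + P.B w w') x := by
  have h1 := P.eq_zero_symm hw
  simp only [eu_apply, map_add, map_sub, map_smul, hd, hw', h1, LinearMap.add_apply]
  module

theorem eu_zero (d x : V) : eu P d 0 0 x = x := by simp [eu_apply]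

theorem eu_zero_left (w : V) (c : F) (x : V) : eu P 0 w c x = x := by simp [eu_apply]

theorem eu_smul (a : F) (d w : V) (c : F) (x : V) :
    eu P (a • d) w c x = eu P d (σ a • w) (σ a * a * c) x := by
  simp only [eu_apply, B_smul_left, P.σσ]
  module

theorem eu_add_smul (d w : V) (a c : F) (x : V) :
    eu P d (w + a • d) c x = eu P d w (c + a - P.ε * σ a) x := by
  have h := P.εε
  simp only [eu_apply, map_add, LinearMap.add_apply, B_smul_left, smul_add, smul_smul]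
  have : P.B w x - P.ε * (c + a - P.ε * σ a) * P.B d x =
      P.B w x + σ a * P.B d x - P.ε * c * P.B d x - P.ε * P.B d x * a := by
    linear_combination (σ a * P.B d x) * h
  rw [this]
  module

theorem eu_eq_eich (d w x : V) : eu P d w (P.q w) x = P.eich d w x := by
  rw [eu_apply, PQ.eich_apply]; module

theorem eu_eq_qrefl (d : V) (l : F) (x : V) : eu P d 0 l x = P.qrefl (-(P.ε * l)) d x := by
  rw [eu_apply, PQ.qrefl_apply]; simp

theorem eu_fix {d w z : V} (c : F) (h1 : P.B d z = 0) (h2 : P.B w z = 0) : eu P d w c z = z := by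
  simp [eu_apply, h1, h2]

theorem eu_conj {g : V ≃ₗ[F] V} (hg : g ∈ P.Isom) (d w : V) (c : F) (x : V) :
    g (eu P d w c (g⁻¹ x)) = eu P (g d) (g w) c x := by
  have h : ∀ y, P.B y (g⁻¹ x) = P.B (g y) x := fun y => by rw [← hg.1, le_apply_inv]
  simp only [eu_apply, map_add, map_sub, map_smul, le_apply_inv, h]

theorem qrefl_conj {g : V ≃ₗ[F] V} (hg : g ∈ P.Isom) (c : F) (d x : V) :
    g (P.qrefl c d (g⁻¹ x)) = P.qrefl c (g d) x := by
  have h : ∀ y, P.B y (g⁻¹ x) = P.B (g y) x := fun y => by rw [← hg.1, le_apply_inv]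
  simp only [PQ.qrefl_apply, map_add, map_smul, le_apply_inv, h]

theorem qrefl_valid_of_sing {d : V} (hd : P.q d ∈ P.Λ) {l : F} (hl : l ∈ P.Λ) :
    σ (-(P.ε * l)) * (-(P.ε * l)) * P.q d + P.ε * (-(P.ε * l)) ∈ P.Λ := by
  refine P.Λ.add_mem (P.norm_mem _ _ hd) ?_
  have : P.ε * (-(P.ε * l)) = -l := by linear_combination (-l) * P.εε
  rw [this]; exact P.Λ.neg_mem hl

theorem eu_split {d w : V} (hd : P.q d ∈ P.Λ) (hw : P.B d w = 0) (c : F) (x : V) :
    eu P d w c x = P.eich d w (P.qrefl (-(P.ε * (c - P.q w))) d x) := by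
  rw [← eu_eq_qrefl, ← eu_eq_eich, eu_comp (P.self_eq_zero hd) hw (by simp)]
  simp

theorem eu_B {d w : V} {c : F} (hd : P.q d ∈ P.Λ) (hw : P.B d w = 0) (hc : c - P.q w ∈ P.Λ)
    (x y : V) : P.B (eu P d w c x) (eu P d w c y) = P.B x y := by
  rw [eu_split hd hw, eu_split hd hw, P.eich_B hd hw, P.qrefl_B (qrefl_valid_of_sing hd hc)]

theorem eu_q {d w : V} {c : F} (hd : P.q d ∈ P.Λ) (hw : P.B d w = 0) (hc : c - P.q w ∈ P.Λ)
    (x : V) : P.q (eu P d w c x) - P.q x ∈ P.Λ := by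
  rw [eu_split hd hw]
  have := P.Λ.add_mem (P.eich_q hd hw (P.qrefl (-(P.ε * (c - P.q w))) d x))
    (P.qrefl_q (qrefl_valid_of_sing hd hc) x)
  simpa using this

theorem valid_add {w w' : V} {c c' : F} (hc : c - P.q w ∈ P.Λ) (hc' : c' - P.q w' ∈ P.Λ) :
    c + c' + P.B w w' - P.q (w + w') ∈ P.Λ := by
  have := P.Λ.sub_mem (P.Λ.add_mem hc hc') (P.q_add w w')
  convert this using 1; ring

theorem valid_neg {w : V} {c : F} (hc : c - P.q w ∈ P.Λ) : P.B w w - c - P.q (-w) ∈ P.Λ := by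
  have := P.Λ.sub_mem (P.Λ.neg_mem (P.Λ.add_mem hc (P.q_neg w))) (P.sub_mem (P.q w))
  convert this using 1
  rw [P.self]; ring

theorem valid_smul (a : F) {w : V} {c : F} (hc : c - P.q w ∈ P.Λ) :
    σ a * a * c - P.q (a • w) ∈ P.Λ := by
  have := P.Λ.sub_mem (P.norm_mem a _ hc) (P.q_smul a w)
  convert this using 1; ring

theorem valid_smul' (a : F) {w : V} {c : F} (hc : c - P.q w ∈ P.Λ) :
    σ a * a * c - P.q (σ a • w) ∈ P.Λ := by
  have := valid_smul (σ a) hc
  rw [P.σσ] at this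
  convert this using 1; ring

theorem isom_q {g : V ≃ₗ[F] V} (hg : g ∈ P.Isom) {x : V} (hx : P.q x ∈ P.Λ) : P.q (g x) ∈ P.Λ := by
  simpa using P.Λ.add_mem (hg.2 x) hx

theorem isom_valid {g : V ≃ₗ[F] V} (hg : g ∈ P.Isom) {w : V} {c : F} (hc : c - P.q w ∈ P.Λ) :
    c - P.q (g w) ∈ P.Λ := by
  have := P.Λ.sub_mem hc (hg.2 w)
  convert this using 1; ring

theorem q_add_sing {x y : V} (hy : P.q y ∈ P.Λ) (h : P.B x y = 0) : P.q (x + y) - P.q x ∈ P.Λ := by
  have := P.Λ.add_mem (P.q_add x y) hy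
  convert this using 1; rw [h]; ring

theorem sing_add {x y : V} (hx : P.q x ∈ P.Λ) (hy : P.q y ∈ P.Λ) (h : P.B x y = 0) :
    P.q (x + y) ∈ P.Λ := by
  simpa using P.Λ.add_mem (q_add_sing hy h) hx

theorem has_eu_SLV {d w : V} (hd : P.B d d = 0) (hw : P.B d w = 0) (c : F) :
    Has (SLV F V) (eu P d w c) := by
  have h1 := P.eq_zero_symm hw
  have t1 : HasT (SLV F V) d (P.B w - (P.ε * (c - P.B w w)) • P.B d) := hasT_SLV (by simp [hd, h1])
  have t2 : HasT (SLV F V) w (-(P.ε • P.B d)) := hasT_SLV (by simp [hw])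
  refine (Has.comp t1 t2).congr fun x => ?_
  simp only [eu_apply, map_add, map_smul, LinearMap.sub_apply, LinearMap.smul_apply,
    LinearMap.neg_apply, smul_eq_mul, hw]
  module

theorem has_eu_isom {d w : V} {c : F} (hd : P.q d ∈ P.Λ) (hw : P.B d w = 0)
    (hc : c - P.q w ∈ P.Λ) : Has P.Isom (eu P d w c) := by
  obtain ⟨g, -, e⟩ := has_eu_SLV (P.self_eq_zero hd) hw c
  refine ⟨g, ⟨fun x y => ?_, fun x => ?_⟩, e⟩
  · rw [e, e, eu_B hd hw hc]
  · rw [e]; exact eu_q hd hw hc x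

variable (P) in
/-- The group generated by all the `X_d`. -/
def EG : Subgroup (V ≃ₗ[F] V) :=
  Subgroup.closure {g | ∃ d w c, P.q d ∈ P.Λ ∧ P.B d w = 0 ∧ c - P.q w ∈ P.Λ ∧
    ∀ x, g x = eu P d w c x}

theorem has_eu_EG {d w : V} {c : F} (hd : P.q d ∈ P.Λ) (hw : P.B d w = 0)
    (hc : c - P.q w ∈ P.Λ) : Has (EG P) (eu P d w c) := by
  obtain ⟨g, -, e⟩ := has_eu_isom hd hw hc
  exact ⟨g, Subgroup.subset_closure ⟨d, w, c, hd, hw, hc, e⟩, e⟩

theorem EG_le {M : Subgroup (V ≃ₗ[F] V)} (h : ∀ d w c, P.q d ∈ P.Λ → P.B d w = 0 →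
    c - P.q w ∈ P.Λ → Has M (eu P d w c)) : EG P ≤ M := by
  rw [EG, Subgroup.closure_le]
  rintro g ⟨d, w, c, hd, hw, hc, e⟩
  exact (h d w c hd hw hc).mem e

theorem EG_le_isom : EG P ≤ P.Isom := EG_le fun _ _ _ => has_eu_isom

theorem EG_le_SLV : EG P ≤ SLV F V :=
  EG_le fun _ _ c hd hw _ => has_eu_SLV (P.self_eq_zero hd) hw c

theorem EG_conj {g h : V ≃ₗ[F] V} (hg : g ∈ P.Isom) (hh : h ∈ EG P) : g * h * g⁻¹ ∈ EG P := by
  have : EG P ≤ (EG P).comap (MulAut.conj g).toMonoidHom := by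
    refine EG_le fun d w c hd hw hc => ?_
    obtain ⟨k, -, e⟩ := has_eu_isom hd hw hc
    refine ⟨k, ?_, e⟩
    refine (has_eu_EG (isom_q hg hd) (by rw [hg.1, hw]) (isom_valid hg hc)).mem fun x => ?_
    rw [← eu_conj hg, ← e]; rfl
  exact this hh

variable (P) in
/-- `M` contains the whole of `X_d`. -/
def XLe (M : Subgroup (V ≃ₗ[F] V)) (d : V) : Prop :=
  ∀ w c, P.B d w = 0 → c - P.q w ∈ P.Λ → Has M (eu P d w c)

variable {M : Subgroup (V ≃ₗ[F] V)}

theorem xle_EG {d : V} (hd : P.q d ∈ P.Λ) : XLe P (EG P) d := fun _ _ => has_eu_EG hd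

theorem XLe.mono {N : Subgroup (V ≃ₗ[F] V)} {d : V} (h : XLe P M d) (hMN : M ≤ N) : XLe P N d :=
  fun w c hw hc => (h w c hw hc).mono hMN

theorem has_eu_conj {d w : V} {c : F} (h : Has M (eu P d w c)) {g : V ≃ₗ[F] V} (hg : g ∈ M)
    (hg' : g ∈ P.Isom) : Has M (eu P (g d) (g w) c) :=
  (h.conj hg).congr (eu_conj hg' d w c)

theorem XLe.apply {d : V} (h : XLe P M d) {g : V ≃ₗ[F] V} (hg : g ∈ M) (hg' : g ∈ P.Isom) :
    XLe P M (g d) := by
  intro w c hw hc
  have := has_eu_conj (h (g⁻¹ w) c (by rw [← hg'.1, le_apply_inv, hw])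
    (isom_valid (P.Isom.inv_mem hg') hc)) hg hg'
  rwa [le_apply_inv] at this

theorem XLe.smul {d : V} (h : XLe P M d) (a : F) : XLe P M (a • d) := by
  by_cases ha : a = 0
  · subst ha
    intro w c _ _
    exact has_id.congr fun x => by rw [zero_smul, eu_zero_left]
  intro w c hw hc
  have hσ : σ a ≠ 0 := by simpa using ha
  rw [B_smul_left, mul_eq_zero] at hw
  refine (h (σ a • w) (σ a * a * c) (by simp [hw.resolve_left hσ]) (valid_smul' a hc)).congr
    fun x => (eu_smul a d w c x).symm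

/-- The parameters of the element of `X_d` carrying `x` to `y`. -/
theorem exists_eu_apply_eq {d x y : V} (hd : P.q d ∈ P.Λ) (hq : P.q x - P.q y ∈ P.Λ)
    (hB : P.B d x = P.B d y) (h0 : P.B d x ≠ 0) :
    ∃ a c : F, P.B d (a • (x - y)) = 0 ∧ c - P.q (a • (x - y)) ∈ P.Λ ∧
      eu P d (a • (x - y)) c x = y := by
  set β := P.B d x with hβ
  have hε := P.ε_ne_zero
  have hεε := P.εε
  set w := (P.ε * β)⁻¹ • (x - y) with hw
  have hdw : P.B d w = 0 := by simp [hw, ← hβ, ← hB]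
  refine ⟨(P.ε * β)⁻¹, P.B w x * (P.ε * β)⁻¹, hdw, ?_, ?_⟩
  · have h1 := eu_q hd hdw (c := P.q w) (by simp) x
    have h2 : eu P d w (P.q w) x = y + (P.B w x - P.ε * P.q w * β) • d := by
      rw [eu_apply, ← hβ, hw, smul_smul, mul_inv_cancel₀ (mul_ne_zero hε h0)]; module
    rw [h2] at h1
    set t := P.B w x - P.ε * P.q w * β with ht
    have h3 := P.q_add_smul y d t
    have h4 := P.norm_mem t _ hd
    have h5 : t * P.B y d ∈ P.Λ := by
      have := P.Λ.sub_mem (P.Λ.sub_mem (P.Λ.add_mem h1 hq) h3) h4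
      convert this using 1; ring
    have h6 := P.norm_mem β⁻¹ _ h5
    rw [P.symm d y, ← hB] at h6
    have hσ : σ β ≠ 0 := by simpa using h0
    convert h6 using 1
    rw [← hw, ht, map_inv₀]
    field_simp
    linear_combination (P.q w * β * P.ε - P.B w x) * hεε
  · rw [← hw, eu_apply, ← hβ, hw, smul_smul, mul_inv_cancel₀ (mul_ne_zero hε h0)]
    have : P.B ((P.ε * β)⁻¹ • (x - y)) x -
        P.ε * (P.B ((P.ε * β)⁻¹ • (x - y)) x * (P.ε * β)⁻¹) * β = 0 := by
      field_simp; ring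
    rw [this]; module

/-- `X_d` is transitive on vectors with given `q`-value and given non-zero product with `d`. -/
theorem XLe.exists_apply_eq {d x y : V} (h : XLe P M d) (hd : P.q d ∈ P.Λ)
    (hq : P.q x - P.q y ∈ P.Λ) (hB : P.B d x = P.B d y) (h0 : P.B d x ≠ 0) :
    ∃ g ∈ M, g ∈ P.Isom ∧ g x = y ∧ ∀ z, P.B d z = 0 → P.B (x - y) z = 0 → g z = z := by
  obtain ⟨a, c, h1, h2, h3⟩ := exists_eu_apply_eq hd hq hB h0
  obtain ⟨g, hg, e⟩ := h _ c h1 h2
  refine ⟨g, hg, (has_eu_isom hd h1 h2).mem e, by rw [e, h3], fun z hz hz' => ?_⟩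
  rw [e, eu_fix c hz (by rw [B_smul_left, hz', mul_zero])]

theorem XLe.of_ne {d e y : V} (hd : P.q d ∈ P.Λ) (he : P.q e ∈ P.Λ) (hy : P.q y ∈ P.Λ)
    (h1 : XLe P M d) (h2 : XLe P M e) (hde : P.B d e ≠ 0) (hdy : P.B d y ≠ 0) : XLe P M y := by
  have h3 : P.B d ((P.B d y * (P.B d e)⁻¹) • e) = P.B d y := by
    simp [hde]
  obtain ⟨g, hg, hg', h4, -⟩ := h1.exists_apply_eq hd
    (P.Λ.sub_mem (P.q_smul_mem he (P.B d y * (P.B d e)⁻¹)) hy) h3 (by rw [h3]; exact hdy)
  rw [← h4]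
  exact (h2.smul _).apply hg hg'

variable [FiniteDimensional F V]

/-- `X_d` and `X_e` for non-perpendicular singular `d`, `e` generate `E`. -/
theorem EG_le_of_xle (hP : P.B.SeparatingLeft) {d e : V} (hd : P.q d ∈ P.Λ) (he : P.q e ∈ P.Λ)
    (h1 : XLe P M d) (h2 : XLe P M e) (hde : P.B d e ≠ 0) : EG P ≤ M := by
  refine EG_le fun y w c hy => ?_
  revert w c
  change XLe P M y
  by_cases hdy : P.B d y = 0
  swap
  · exact XLe.of_ne hd he hy h1 h2 hde hdy
  by_cases hey : P.B e y = 0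
  swap
  · exact XLe.of_ne he hd hy h2 h1 (B_ne_zero_symm hde) hey
  by_cases hy0 : y = 0
  · rw [hy0, ← zero_smul F d]; exact h1.smul 0
  have hdd := P.self_eq_zero hd
  have hee := P.self_eq_zero he
  have hH : y ∉ Submodule.span F {d, e} := by
    intro h
    obtain ⟨a, b, rfl⟩ := Submodule.mem_span_pair.1 h
    simp only [map_add, map_smul, smul_eq_mul, hdd, hee, mul_zero, zero_add, add_zero,
      mul_eq_zero] at hdy hey
    rw [hdy.resolve_right hde, hey.resolve_right (B_ne_zero_symm hde)] at hy0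
    simp at hy0
  obtain ⟨w, hw, hwy, hwH⟩ := P.exists_partner hP _ hH hy (by
    intro h hh
    obtain ⟨a, b, rfl⟩ := Submodule.mem_span_pair.1 hh
    simp [P.eq_zero_symm hdy, P.eq_zero_symm hey])
  have hwd := P.eq_zero_symm (hwH d (Submodule.subset_span (by simp)))
  have hwe := P.eq_zero_symm (hwH e (Submodule.subset_span (by simp)))
  have hz : P.q (e + w) ∈ P.Λ := sing_add he hw hwe
  have hdz : P.B d (e + w) ≠ 0 := by simpa [hwd] using hde
  have h3 := XLe.of_ne hd he hz h1 h2 hde hdz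
  exact XLe.of_ne hz hd hy h3 h1 (B_ne_zero_symm hdz) (by simp [hey, hwy])

end H97
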