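import Mathlib
import Cfsg.Agent.Base
import Cfsg.Agent.Lib.ClassMax.Eichler

/-!
Perpendicular spaces, transitivity of the group `E`, generation of the isometry group by `E` and
quasi-reflections, and Witt's lemma inside `E`.
-/

set_option autoImplicit false
set_option linter.unusedSectionVars false

namespace H97

open Module Cfsg H28
open scoped commutatorElement

variable {F V : Type*} [Field F] [AddCommGroup V] [Module F V] {σ : F →+* F} (P : PQ F V σ)

/-- The perpendicular of a subspace. -/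
def perp (U : Submodule F V) : Submodule F V where
  carrier := {x | ∀ u ∈ U, P.B u x = 0}
  zero_mem' u _ := by simp
  add_mem' {x y} hx hy u hu := by simp [hx u hu, hy u hu]
  smul_mem' c x hx u hu := by simp [hx u hu]

/-- Every subspace of dimension at least `k` has a non-zero singular vector. -/
def IsoK (k : ℕ) : Prop :=
  ∀ X : Submodule F V, k ≤ finrank F X → ∃ x ∈ X, x ≠ 0 ∧ P.q x ∈ P.Λ

variable {P}

theorem mem_perp {U : Submodule F V} {x : V} : x ∈ perp P U ↔ ∀ u ∈ U, P.B u x = 0 := Iff.rfl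

theorem mem_perp' {U : Submodule F V} {x : V} : x ∈ perp P U ↔ ∀ u ∈ U, P.B x u = 0 :=
  ⟨fun h u hu => P.eq_zero_symm (h u hu), fun h u hu => P.eq_zero_symm (h u hu)⟩

theorem mem_perp_span {s : Set V} {x : V} :
    x ∈ perp P (Submodule.span F s) ↔ ∀ u ∈ s, P.B u x = 0 := by
  refine ⟨fun h u hu => h u (Submodule.subset_span hu), fun h => mem_perp'.2 fun u hu => ?_⟩
  have : Submodule.span F s ≤ LinearMap.ker (P.B x) :=
    Submodule.span_le.2 fun u hu => P.eq_zero_symm (h u hu)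
  exact this hu

theorem mem_perp_singleton {d x : V} : x ∈ perp P (F ∙ d) ↔ P.B d x = 0 := by
  rw [mem_perp_span]; simp

theorem perp_sup (U W : Submodule F V) : perp P (U ⊔ W) = perp P U ⊓ perp P W := by
  ext x
  constructor
  · exact fun h => ⟨fun u hu => h u (Submodule.mem_sup_left hu),
      fun u hu => h u (Submodule.mem_sup_right hu)⟩
  · rintro ⟨h1, h2⟩ u hu
    obtain ⟨a, ha, b, hb, rfl⟩ := Submodule.mem_sup.1 hu
    simp [h1 a ha, h2 b hb]

theorem perp_anti {U W : Submodule F V} (h : U ≤ W) : perp P W ≤ perp P U :=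
  fun _ hx u hu => hx u (h hu)

theorem le_perp_perp (U : Submodule F V) : U ≤ perp P (perp P U) :=
  fun u hu _ hx => P.eq_zero_symm (hx u hu)

theorem le_perp_comm {U W : Submodule F V} (h : U ≤ perp P W) : W ≤ perp P U :=
  fun w hw _ hu => P.eq_zero_symm (h hu w hw)

theorem stab_perp {g : V ≃ₗ[F] V} (hg : g ∈ P.Isom) {U : Submodule F V} (h : g ∈ stab U) :
    g ∈ stab (perp P U) := by
  intro v
  constructor
  · intro hv u hu
    have := hv (g⁻¹ u) ((h _).2 (by rwa [le_apply_inv]))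
    rwa [← hg.1, le_apply_inv] at this
  · intro hv u hu
    rw [← hg.1]
    exact hv _ ((h u).1 hu)

theorem IsoK.mono {k l : ℕ} (h : IsoK P k) (hkl : k ≤ l) : IsoK P l :=
  fun X hX => h X (hkl.trans hX)

variable [FiniteDimensional F V]

theorem finrank_inf_ker (X : Submodule F V) (φ : Dual F V) :
    finrank F X ≤ finrank F ↥(X ⊓ LinearMap.ker φ) + 1 := by
  have h1 := Submodule.finrank_sup_add_finrank_inf_eq X (LinearMap.ker φ)
  have h2 := LinearMap.finrank_range_add_finrank_ker φ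
  have h3 : finrank F (LinearMap.range φ) ≤ 1 := by
    simpa using Submodule.finrank_le (LinearMap.range φ)
  have h4 := Submodule.finrank_le (X ⊔ LinearMap.ker φ)
  omega

theorem finrank_le_perp (U : Submodule F V) : finrank F V ≤ finrank F (perp P U) + finrank F U := by
  let b := Module.finBasis F U
  let f : V →ₗ[F] (Fin (finrank F U) → F) := LinearMap.pi fun i => P.B (b i)
  have h1 : LinearMap.ker f = perp P U := by
    ext x
    rw [LinearMap.mem_ker, mem_perp']
    constructor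
    · intro h u hu
      have h2 : (P.B x).comp U.subtype = 0 := b.ext fun i => P.eq_zero_symm (congrFun h i)
      exact congrArg (fun g : U →ₗ[F] F => g ⟨u, hu⟩) h2
    · intro h
      funext i
      exact P.eq_zero_symm (h _ (b i).2)
  have h2 := LinearMap.finrank_range_add_finrank_ker f
  have h3 : finrank F (LinearMap.range f) ≤ finrank F U := by
    simpa using Submodule.finrank_le (LinearMap.range f)
  rw [h1] at h2
  omega

theorem finrank_inf_perp (X U : Submodule F V) :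
    finrank F X ≤ finrank F ↥(X ⊓ perp P U) + finrank F U := by
  have h1 := Submodule.finrank_sup_add_finrank_inf_eq X (perp P U)
  have h2 := finrank_le_perp (P := P) U
  have h4 := Submodule.finrank_le (X ⊔ perp P U)
  omega

theorem perp_perp (hP : P.B.SeparatingLeft) (U : Submodule F V) : perp P (perp P U) = U := by
  refine le_antisymm (fun x hx => ?_) (le_perp_perp U)
  by_contra h
  obtain ⟨w, h1, h2⟩ := exists_orth_of_notMem P.σσ P.B hP U h
  rw [hx w (mem_perp'.2 h1)] at h2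
  exact zero_ne_one h2

theorem finrank_perp (hP : P.B.SeparatingLeft) (U : Submodule F V) :
    finrank F (perp P U) + finrank F U = finrank F V := by
  refine le_antisymm ?_ (finrank_le_perp U)
  obtain ⟨C, hC⟩ := U.exists_isCompl
  have h1 := finrank_le_perp (P := P) C
  have h2 := Submodule.finrank_add_eq_of_isCompl hC
  have h3 : perp P U ⊓ perp P C = ⊥ := by
    rw [← perp_sup, hC.sup_eq_top, eq_bot_iff]
    intro x hx
    exact hP x fun y => mem_perp'.1 hx y trivial
  have h4 := Submodule.finrank_sup_add_finrank_inf_eq (perp P U) (perp P C)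
  have h5 := Submodule.finrank_le (perp P U ⊔ perp P C)
  rw [h3, finrank_bot] at h4
  omega

theorem isCompl_perp {U : Submodule F V} (h : U ⊓ perp P U = ⊥) : IsCompl U (perp P U) := by
  refine ⟨disjoint_iff.2 h, codisjoint_iff.2 (Submodule.eq_top_of_finrank_eq ?_)⟩
  have h1 := Submodule.finrank_sup_add_finrank_inf_eq U (perp P U)
  have h2 := finrank_le_perp (P := P) U
  have h3 := Submodule.finrank_le (U ⊔ perp P U)
  rw [h, finrank_bot] at h1
  omega

theorem finrank_span_singleton_le (x : V) : finrank F (F ∙ x) ≤ 1 := by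
  simpa using finrank_span_le_card (R := F) ({x} : Set V)

theorem finrank_sup_le' (U W : Submodule F V) : finrank F ↥(U ⊔ W) ≤ finrank F U + finrank F W := by
  have := Submodule.finrank_sup_add_finrank_inf_eq U W
  omega

theorem IsoK.exists_notMem {k : ℕ} (h : IsoK P k) (X U : Submodule F V)
    (hX : finrank F U + k ≤ finrank F X) : ∃ x ∈ X, x ∉ U ∧ P.q x ∈ P.Λ := by
  obtain ⟨C, hC⟩ := U.exists_isCompl
  have h1 := Submodule.finrank_sup_add_finrank_inf_eq X C
  have h2 := Submodule.finrank_add_eq_of_isCompl hC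
  have h3 := Submodule.finrank_le (X ⊔ C)
  obtain ⟨x, hx, hx0, hq⟩ := h (X ⊓ C) (by omega)
  exact ⟨x, hx.1, fun hU => hx0 ((Submodule.disjoint_def.1 hC.disjoint) x hU hx.2), hq⟩

/-- A hyperbolic pair perpendicular to `U`. -/
theorem IsoK.exists_pair {k : ℕ} (h : IsoK P k) (hP : P.B.SeparatingLeft) (U : Submodule F V)
    (hU : 2 * finrank F U + k ≤ finrank F V) :
    ∃ e f, P.q e ∈ P.Λ ∧ P.q f ∈ P.Λ ∧ P.B e f = 1 ∧ e ∈ perp P U ∧ f ∈ perp P U := by
  have h1 := finrank_le_perp (P := P) U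
  obtain ⟨f, hf, hfU, hq⟩ := h.exists_notMem (perp P U) U (by omega)
  obtain ⟨e, he, hef, heU⟩ := P.exists_partner hP U hfU hq (mem_perp'.1 hf)
  exact ⟨e, f, he, hq, hef, mem_perp'.2 heU, hf⟩

/-- A hyperbolic pair inside `perp W`, for non-degenerate `W`, perpendicular to `Y ≤ perp W`. -/
theorem IsoK.exists_pair_in {k : ℕ} (h : IsoK P k) (hP : P.B.SeparatingLeft) {W Y : Submodule F V}
    (hW : W ⊓ perp P W = ⊥) (hY : Y ≤ perp P W) (hU : 2 * finrank F Y + k ≤ finrank F (perp P W)) :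
    ∃ e f, P.q e ∈ P.Λ ∧ P.q f ∈ P.Λ ∧ P.B e f = 1 ∧ e ∈ perp P (W ⊔ Y) ∧ f ∈ perp P (W ⊔ Y) := by
  have h1 := finrank_inf_perp (P := P) (perp P W) Y
  obtain ⟨f, hf, hfU, hq⟩ := h.exists_notMem (perp P W ⊓ perp P Y) Y (by omega)
  have hf' : f ∉ W ⊔ Y := by
    intro hh
    obtain ⟨a, ha, b, hb, rfl⟩ := Submodule.mem_sup.1 hh
    have : a ∈ W ⊓ perp P W := ⟨ha, ((perp P W).add_mem_iff_left (hY hb)).1 hf.1⟩
    rw [hW, Submodule.mem_bot] at this
    exact hfU (by simpa [this] using hb)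
  rw [← perp_sup] at hf
  obtain ⟨e, he, hef, heU⟩ := P.exists_partner hP _ hf' hq (mem_perp'.1 hf)
  exact ⟨e, f, he, hq, hef, mem_perp'.2 heU, hf⟩

theorem q_pair {e f : V} (he : P.q e ∈ P.Λ) (hf : P.q f ∈ P.Λ) (hef : P.B e f = 1) (a : F) :
    P.q (e + a • f) - a ∈ P.Λ := by
  have := P.Λ.add_mem (P.Λ.add_mem (P.q_add_smul e f a) he) (P.norm_mem a _ hf)
  convert this using 1; rw [hef]; ring

theorem pair_ne_zero {e f : V} (hf : P.q f ∈ P.Λ) (hef : P.B e f = 1) (a : F) :
    e + a • f ≠ 0 := by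
  intro h
  have := congrArg (fun x => P.B x f) h
  simp [hef, B_smul_left, P.self_eq_zero hf] at this

/-- With a hyperbolic pair perpendicular to `x`, one can add a vector to make `x` singular, or give
it any `q`-value. -/
theorem q_add_pair {e f x : V} (he : P.q e ∈ P.Λ) (hf : P.q f ∈ P.Λ) (hef : P.B e f = 1)
    (hxe : P.B x e = 0) (hxf : P.B x f = 0) (a : F) :
    P.q (x + (e + (a - P.q x) • f)) - a ∈ P.Λ := by
  have := P.Λ.add_mem (P.q_add x (e + (a - P.q x) • f)) (q_pair he hf hef (a - P.q x))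
  convert this using 1
  simp [hxe, hxf]

/-- A singular vector perpendicular to `z` and not to `x`. -/
theorem IsoK.exists_sing_perp {k : ℕ} (h : IsoK P k) (hP : P.B.SeparatingLeft)
    (hn : k + 2 ≤ finrank F V) {x z : V} (hx : x ∉ F ∙ z) :
    ∃ d, P.q d ∈ P.Λ ∧ P.B d z = 0 ∧ P.B d x ≠ 0 := by
  obtain ⟨e, f, he, hf, hef, hez, hfz⟩ := h.exists_pair hP (F ∙ z)
    (by have := finrank_span_singleton_le (F := F) z; omega)
  have hez' := P.eq_zero_symm (mem_perp_singleton.1 hez)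
  have hfz' := P.eq_zero_symm (mem_perp_singleton.1 hfz)
  by_cases h1 : P.B e x = 0
  swap
  · exact ⟨e, he, hez', h1⟩
  by_cases h2 : P.B f x = 0
  swap
  · exact ⟨f, hf, hfz', h2⟩
  have hee := P.self_eq_zero he
  have hff := P.self_eq_zero hf
  have hfe : P.B f e = P.ε := by rw [P.symm, hef]; simp
  have hx' : x ∉ Submodule.span F {e, f} ⊔ F ∙ z := by
    intro hh
    obtain ⟨y, hy, y', hy', rfl⟩ := Submodule.mem_sup.1 hh
    obtain ⟨a, b, rfl⟩ := Submodule.mem_span_pair.1 hy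
    obtain ⟨c, rfl⟩ := Submodule.mem_span_singleton.1 hy'
    simp only [map_add, map_smul, hee, hef, hez', hfz', hff, hfe, smul_eq_mul, mul_zero, mul_one,
      zero_add, add_zero, mul_eq_zero] at h1 h2
    rw [h1, h2.resolve_right P.ε_ne_zero] at hx
    exact hx (by simpa using hy')
  obtain ⟨a, ha, hax⟩ := exists_orth_of_notMem P.σσ P.B hP _ hx'
  have hae := ha e (Submodule.mem_sup_left (Submodule.subset_span (by simp)))
  have haf := ha f (Submodule.mem_sup_left (Submodule.subset_span (by simp)))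
  have haz := ha z (Submodule.mem_sup_right (Submodule.mem_span_singleton_self z))
  refine ⟨a + (e + (0 - P.q a) • f), by simpa using q_add_pair he hf hef hae haf 0, ?_, ?_⟩
  · simp [haz, hez', hfz', B_smul_left]
  · simp [hax, h1, h2, B_smul_left]

/-- `E` is transitive on the non-zero vectors with a given `q`-value. -/
theorem IsoK.exists_EG_apply_eq {k : ℕ} (h : IsoK P k) (hP : P.B.SeparatingLeft)
    (hn : k + 2 ≤ finrank F V) {x y : V} (hx : x ≠ 0) (hy : y ≠ 0) (hq : P.q x - P.q y ∈ P.Λ) :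
    ∃ g ∈ EG P, g x = y := by
  have key : ∀ x y : V, x ∉ F ∙ (x - y) → P.q x - P.q y ∈ P.Λ → ∃ g ∈ EG P, g x = y := by
    intro x y h1 h2
    obtain ⟨d, hd, hdz, hdx⟩ := h.exists_sing_perp hP hn h1
    obtain ⟨g, hg, -, h3, -⟩ := (xle_EG hd).exists_apply_eq hd h2
      (by rwa [map_sub, sub_eq_zero] at hdz) hdx
    exact ⟨g, hg, h3⟩
  by_cases h1 : x ∈ F ∙ (x - y)
  swap
  · exact key x y h1 hq
  obtain ⟨a, ha⟩ := Submodule.mem_span_singleton.1 h1
  have ha0 : a ≠ 0 := by rintro rfl; exact hx (by simpa using ha.symm)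
  have hyx : y = (1 - a⁻¹) • x := by
    have : x - y = a⁻¹ • x := by
      conv_rhs => rw [← ha]
      rw [smul_smul, inv_mul_cancel₀ ha0, one_smul]
    rw [sub_smul, ← this]; simp
  have hb : (1 - a⁻¹) ≠ 0 := by intro h0; rw [h0] at hyx; exact hy (by simpa using hyx)
  have h2 := finrank_le_perp (P := P) (F ∙ x)
  have h3 := finrank_span_singleton_le (F := F) x
  obtain ⟨e, he, hex, hqe⟩ := h.exists_notMem (perp P (F ∙ x)) (F ∙ x) (by omega)
  rw [mem_perp_singleton] at he
  have hq1 := q_add_sing hqe he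
  obtain ⟨g1, hg1, e1⟩ := key x (x + e) (by
    intro hh
    obtain ⟨c, hc⟩ := Submodule.mem_span_singleton.1 hh
    have hc0 : c ≠ 0 := by rintro rfl; exact hx (by simpa using hc.symm)
    refine hex (Submodule.mem_span_singleton.2 ⟨-c⁻¹, ?_⟩)
    conv_lhs => rw [← hc]
    rw [smul_smul, neg_mul, inv_mul_cancel₀ hc0]; module) (by simpa using P.Λ.neg_mem hq1)
  obtain ⟨g2, hg2, e2⟩ := key (x + e) y (by
    intro hh
    obtain ⟨c, hc⟩ := Submodule.mem_span_singleton.1 hh
    by_cases hc1 : c = 1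
    · rw [hc1, one_smul] at hc
      exact hy (by simpa using hc)
    · refine hex (Submodule.mem_span_singleton.2 ⟨(1 - c)⁻¹ * (c * a⁻¹ - 1), ?_⟩)
      have h4 : (1 - c) • e = (c * a⁻¹ - 1) • x := by
        rw [hyx] at hc
        linear_combination (norm := module) -hc
      rw [mul_smul, ← h4, smul_smul, inv_mul_cancel₀ (sub_ne_zero.2 (Ne.symm hc1)), one_smul])
    (by simpa using P.Λ.add_mem hq1 hq)
  exact ⟨g2 * g1, (EG P).mul_mem hg2 hg1, by rw [le_mul_apply, e1, e2]⟩

/-! ### generation of the isometry group -/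

section Generation

variable {K : Subgroup (V ≃ₗ[F] V)}

theorem witt_step_one_in
    (hK : ∀ c d, σ c * c * P.q d + P.ε * c ∈ P.Λ → Has K (P.qrefl c d)) {u v : V}
    (hq : P.q v - P.q u ∈ P.Λ) (h : P.B (v - u) u ≠ 0) :
    ∃ g ∈ K, g u = v ∧ ∀ x, P.B (v - u) x = 0 → g x = x := by
  set d := v - u with hd
  set a := P.B d u with ha
  have hσa : σ a ≠ 0 := by simpa using h
  have hmem : σ a⁻¹ * a⁻¹ * P.q d + P.ε * a⁻¹ ∈ P.Λ := by
    have h1 := P.q_add u d
    have hv : u + d = v := by simp [hd]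
    rw [hv, P.symm d u, ← ha] at h1
    have h2 := P.norm_mem a⁻¹ _ (P.Λ.sub_mem hq h1)
    convert h2 using 1
    rw [map_inv₀]; field_simp; ring
  obtain ⟨g, hg, hgf⟩ := hK _ _ hmem
  refine ⟨g, hg, ?_, fun x hx => ?_⟩
  · rw [hgf, PQ.qrefl_apply, ← ha, inv_mul_cancel₀ h]; simp [hd]
  · rw [hgf, PQ.qrefl_apply, hx]; simp

theorem witt_step_in (hP : P.B.SeparatingLeft)
    (hK : ∀ c d, σ c * c * P.q d + P.ε * c ∈ P.Λ → Has K (P.qrefl c d)) (hE : EG P ≤ K)
    (H : Submodule F V) {u v : V} (hu : u ∉ H)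
    (hv : v ∉ H) (hq : P.q v - P.q u ∈ P.Λ) (hH : ∀ h ∈ H, P.B v h = P.B u h) :
    ∃ g ∈ K, g u = v ∧ ∀ h ∈ H, g h = h := by
  have hdH : ∀ h ∈ H, P.B (v - u) h = 0 := fun h hh => by simp [hH h hh]
  by_cases h1 : P.B (v - u) u = 0
  swap
  · obtain ⟨g, hg, hgu, hgx⟩ := witt_step_one_in hK hq h1
    exact ⟨g, hg, hgu, fun h hh => hgx h (hdH h hh)⟩
  set d := v - u with hd
  have hvd : v = u + d := by simp [hd]
  have hqd : P.q d ∈ P.Λ := by
    have h2 := P.q_add u d
    rw [← hvd, P.eq_zero_symm h1] at h2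
    have := P.Λ.sub_mem hq h2
    simpa using this
  by_cases h2 : u ∈ H ⊔ F ∙ d
  · obtain ⟨h, hh, y, hy, hu'⟩ := Submodule.mem_sup.mp h2
    obtain ⟨a, rfl⟩ := Submodule.mem_span_singleton.mp hy
    have ha : a ≠ 0 := by
      rintro rfl
      exact hu (by simpa [← hu'] using hh)
    have hv' : v = h + (a + 1) • d := by rw [hvd, ← hu']; module
    have ha' : a + 1 ≠ 0 := by
      intro h0
      exact hv (by simpa [hv', h0] using hh)
    have hdH' : d ∉ H := by
      intro h0
      exact hu (hu' ▸ H.add_mem hh (H.smul_mem a h0))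
    obtain ⟨w, hqw, hwd, hwH⟩ := P.exists_partner hP H hdH' hqd hdH
    have hdd := P.self_eq_zero hqd
    have key : ∀ b : F, b ≠ 0 → ∃ g ∈ K, g (h + b • d) = h + w ∧ ∀ x ∈ H, g x = x := by
      intro b hb
      have e : h + w - (h + b • d) = w - b • d := by abel
      have hq' : P.q (h + w) - P.q (h + b • d) ∈ P.Λ := by
        have e1 := P.q_add h w
        have e2 := P.q_add_smul h d b
        rw [P.eq_zero_symm (hwH h hh)] at e1
        rw [P.eq_zero_symm (hdH h hh)] at e2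
        have := P.Λ.sub_mem (P.Λ.add_mem (P.Λ.sub_mem e1 e2) hqw) (P.norm_mem b _ hqd)
        convert this using 1
        ring
      obtain ⟨g, hg, hgu, hgx⟩ := witt_step_one_in hK hq' (by
        rw [e]; simp [hwH h hh, hdH h hh, hwd, hdd, hb])
      refine ⟨g, hg, hgu, fun x hx => hgx x ?_⟩
      rw [e]; simp [hwH x hx, hdH x hx]
    obtain ⟨g1, hg1, hg1u, hg1x⟩ := key a ha
    obtain ⟨g2, hg2, hg2u, hg2x⟩ := key (a + 1) ha'
    refine ⟨g2⁻¹ * g1, K.mul_mem (K.inv_mem hg2) hg1, ?_, fun x hx => ?_⟩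
    · change g2.symm (g1 u) = v
      rw [← hu', hg1u, ← hg2u, LinearEquiv.symm_apply_apply, hv']
    · change g2.symm (g1 x) = x
      rw [hg1x x hx, LinearEquiv.symm_apply_eq, hg2x x hx]
  · obtain ⟨w, hw, hwu⟩ := exists_orth_of_notMem P.σσ P.B hP _ h2
    have hwd : P.B d w = 0 :=
      P.eq_zero_symm (hw d (Submodule.mem_sup_right (Submodule.mem_span_singleton_self d)))
    obtain ⟨g, hg, hgf⟩ := has_eu_EG hqd hwd (c := P.q w) (by simp)
    refine ⟨g, hE hg, ?_, fun h hh => ?_⟩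
    · rw [hgf, eu_apply, hwu, h1, hvd]; simp
    · rw [hgf, eu_apply, hw h (Submodule.mem_sup_left hh), hdH h hh]; simp

/-- The isometry group is generated by `E` and the quasi-reflections. -/
theorem isom_le_of_qrefl (hP : P.B.SeparatingLeft) (hKI : K ≤ P.Isom)
    (hK : ∀ c d, σ c * c * P.q d + P.ε * c ∈ P.Λ → Has K (P.qrefl c d)) (hE : EG P ≤ K) :
    P.Isom ≤ K := by
  intro g hg
  have key : ∀ n : ℕ, ∀ H : Submodule F V, finrank F H + n = finrank F V →
      ∀ g ∈ P.Isom, (∀ h ∈ H, g h = h) → g ∈ K := by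
    intro n
    induction n with
    | zero =>
      intro H hH g _ hfix
      have : H = ⊤ := Submodule.eq_top_of_finrank_eq (by simpa using hH)
      have h1 : g = 1 := LinearEquiv.ext fun x => hfix x (this ▸ Submodule.mem_top)
      rw [h1]; exact K.one_mem
    | succ n ih =>
      intro H hH g hg hfix
      have hne : H ≠ ⊤ := by rintro rfl; simp at hH
      obtain ⟨u, -, hu⟩ := SetLike.exists_of_lt (lt_top_iff_ne_top.2 hne)
      have hgu : g u ∉ H := fun h => hu (by
        have h2 : g u = u := g.injective (hfix _ h)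
        rwa [h2] at h)
      obtain ⟨k, hk, hku, hkH⟩ := witt_step_in hP hK hE H hu hgu (hg.2 u)
        (fun h hh => by conv_lhs => rw [← hfix h hh, hg.1])
      have h1 : k⁻¹ * g ∈ K := by
        refine ih (H ⊔ F ∙ u) ?_ _ (P.Isom.mul_mem (P.Isom.inv_mem (hKI hk)) hg) ?_
        · have := Submodule.finrank_sup_span_singleton hu
          omega
        · intro y hy
          obtain ⟨a, ha, b, hb, rfl⟩ := Submodule.mem_sup.1 hy
          obtain ⟨c, rfl⟩ := Submodule.mem_span_singleton.1 hb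
          rw [le_mul_apply, map_add, map_smul, hfix a ha, ← hku, map_add, map_smul,
            le_inv_apply_apply]
          conv_lhs => rw [← hkH a ha, le_inv_apply_apply]
      simpa using K.mul_mem hk h1
  exact key (finrank F V) ⊥ (by simp) g hg (by simp)

end Generation

theorem has_qrefl_isom (hP : P.B.SeparatingLeft) {c : F} {d : V}
    (h : σ c * c * P.q d + P.ε * c ∈ P.Λ) : Has P.Isom (P.qrefl c d) :=
  P.exists_isom_of_linear hP _ (P.qrefl_B h) (P.qrefl_q h)

theorem qrefl_valid_congr {c : F} {d d' : V} (h : σ c * c * P.q d + P.ε * c ∈ P.Λ)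
    (hq : P.q d' - P.q d ∈ P.Λ) : σ c * c * P.q d' + P.ε * c ∈ P.Λ := by
  have := P.Λ.add_mem h (P.norm_mem c _ hq)
  convert this using 1; ring

variable (P) in
/-- The product of `E` with a subgroup of the isometry group. -/
def EGmul (L : Subgroup (V ≃ₗ[F] V)) : Subgroup (V ≃ₗ[F] V) where
  carrier := {g | ∃ h ∈ L, h ∈ P.Isom ∧ g * h⁻¹ ∈ EG P}
  one_mem' := ⟨1, L.one_mem, P.Isom.one_mem, by simp⟩
  mul_mem' := by
    rintro a b ⟨h, hh, hh', ha⟩ ⟨k, hk, hk', hb⟩
    refine ⟨h * k, L.mul_mem hh hk, P.Isom.mul_mem hh' hk', ?_⟩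
    have := (EG P).mul_mem ha (EG_conj hh' hb)
    convert this using 1; group
  inv_mem' := by
    rintro a ⟨h, hh, hh', ha⟩
    refine ⟨h⁻¹, L.inv_mem hh, P.Isom.inv_mem hh', ?_⟩
    have := EG_conj (P.Isom.inv_mem hh') ((EG P).inv_mem ha)
    convert this using 1; group

theorem EGmul_le_isom (L : Subgroup (V ≃ₗ[F] V)) : EGmul P L ≤ P.Isom := by
  rintro g ⟨h, -, hh, hg⟩
  simpa using P.Isom.mul_mem (EG_le_isom hg) hh

theorem EG_le_EGmul (L : Subgroup (V ≃ₗ[F] V)) : EG P ≤ EGmul P L :=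
  fun g hg => ⟨1, L.one_mem, P.Isom.one_mem, by simpa using hg⟩

/-- If `L` contains a quasi-reflection of each type then `Isom = E L`. -/
theorem IsoK.isom_le_EGmul {k : ℕ} (h : IsoK P k) (hP : P.B.SeparatingLeft)
    (hn : k + 2 ≤ finrank F V) (L : Subgroup (V ≃ₗ[F] V))
    (hL : ∀ c d, d ≠ 0 → σ c * c * P.q d + P.ε * c ∈ P.Λ → Has (EG P) (P.qrefl c d) ∨
      ∃ d', d' ≠ 0 ∧ P.q d' - P.q d ∈ P.Λ ∧ Has L (P.qrefl c d')) : P.Isom ≤ EGmul P L := by
  refine isom_le_of_qrefl hP (EGmul_le_isom L) (fun c d hc => ?_) (EG_le_EGmul L)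
  by_cases hd : d = 0
  · exact has_id.congr fun x => by simp [PQ.qrefl_apply, hd]
  rcases hL c d hd hc with h1 | ⟨d', hd', hq, s, hs, es⟩
  · exact h1.mono (EG_le_EGmul L)
  obtain ⟨g, hg, e⟩ := h.exists_EG_apply_eq hP hn hd' hd hq
  have hsI : s ∈ P.Isom := (has_qrefl_isom hP (qrefl_valid_congr hc hq)).mem es
  refine ⟨g * s * g⁻¹, ⟨s, hs, hsI, ?_⟩, fun x => ?_⟩
  · have := (EG P).mul_mem hg (EG_conj hsI ((EG P).inv_mem hg))
    convert this using 1; group
  · rw [← e, ← qrefl_conj (EG_le_isom hg), ← es]; rfl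

variable (F) in
/-- The pointwise stabiliser of a set of vectors. -/
def fixer (S : Set V) : Subgroup (V ≃ₗ[F] V) where
  carrier := {g | ∀ u ∈ S, g u = u}
  one_mem' _ _ := rfl
  mul_mem' {a b} ha hb u hu := by rw [le_mul_apply, hb u hu, ha u hu]
  inv_mem' {a} ha u hu := by
    conv_lhs => rw [← ha u hu]
    rw [le_inv_apply_apply]

/-- Witt's lemma inside `E`: every isometry agrees with an element of `E` on a subspace
perpendicular to a hyperbolic pair. -/
theorem IsoK.exists_EG_agree {k : ℕ} (h : IsoK P k) (hP : P.B.SeparatingLeft)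
    (hn : k + 2 ≤ finrank F V) {U : Submodule F V} {e f : V} (he : P.q e ∈ P.Λ)
    (hf : P.q f ∈ P.Λ) (hef : P.B e f = 1) (heU : e ∈ perp P U) (hfU : f ∈ perp P U)
    {g : V ≃ₗ[F] V} (hg : g ∈ P.Isom) : ∃ g' ∈ EG P, ∀ u ∈ U, g' u = g u := by
  have := h.isom_le_EGmul hP hn (fixer F (U : Set V)) (fun c d _ hc => Or.inr (by
    have hq := q_pair he hf hef (P.q d)
    refine ⟨e + P.q d • f, pair_ne_zero hf hef _, hq, ?_⟩
    obtain ⟨s, -, es⟩ := has_qrefl_isom hP (qrefl_valid_congr hc hq)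
    refine ⟨s, fun u hu => ?_, es⟩
    rw [es, PQ.qrefl_apply]
    simp [B_smul_left, mem_perp'.1 heU u hu, mem_perp'.1 hfU u hu])) hg
  obtain ⟨s, hs, -, hgs⟩ := this
  refine ⟨g * s⁻¹, hgs, fun u hu => ?_⟩
  rw [le_mul_apply, (fixer F (U : Set V)).inv_mem hs u hu]

/-- Witt's lemma inside `E`, dimension form. -/
theorem IsoK.exists_EG_agree' {k : ℕ} (h : IsoK P k) (hP : P.B.SeparatingLeft)
    (hn : k + 2 ≤ finrank F V) {U : Submodule F V} (hU : 2 * finrank F U + k ≤ finrank F V)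
    {g : V ≃ₗ[F] V} (hg : g ∈ P.Isom) : ∃ g' ∈ EG P, ∀ u ∈ U, g' u = g u := by
  obtain ⟨e, f, he, hf, hef, heU, hfU⟩ := h.exists_pair hP U hU
  exact h.exists_EG_agree hP hn he hf hef heU hfU hg

/-- The isometry group is abelian modulo `E`. -/
theorem IsoK.commutator_mem_EG {k : ℕ} (h : IsoK P k) (hP : P.B.SeparatingLeft)
    (hn : k + 2 ≤ finrank F V) {a b : V ≃ₗ[F] V} (ha : a ∈ P.Isom) (hb : b ∈ P.Isom) :
    a * b * a⁻¹ * b⁻¹ ∈ EG P := by
  let K : Subgroup (V ≃ₗ[F] V) :=
    { carrier := {s | s ∈ P.Isom ∧ a * s * a⁻¹ * s⁻¹ ∈ EG P}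
      one_mem' := ⟨P.Isom.one_mem, by simp⟩
      mul_mem' := by
        rintro s t ⟨hs, hs'⟩ ⟨ht, ht'⟩
        refine ⟨P.Isom.mul_mem hs ht, ?_⟩
        have := (EG P).mul_mem hs' (EG_conj hs ht')
        convert this using 1; group
      inv_mem' := by
        rintro s ⟨hs, hs'⟩
        refine ⟨P.Isom.inv_mem hs, ?_⟩
        have := EG_conj (P.Isom.inv_mem hs) ((EG P).inv_mem hs')
        convert this using 1; group }
  have : P.Isom ≤ K := by
    refine isom_le_of_qrefl hP (fun s hs => hs.1) (fun c d hc => ?_) (fun s hs => ?_)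
    · by_cases hd : d = 0
      · exact has_id.congr fun x => by simp [PQ.qrefl_apply, hd]
      obtain ⟨s, hs, es⟩ := has_qrefl_isom hP hc
      refine ⟨s, ⟨hs, ?_⟩, es⟩
      obtain ⟨g, hg, e⟩ := h.exists_EG_apply_eq hP hn hd (y := a d) (by simpa using hd)
        (by simpa using P.Λ.neg_mem (ha.2 d))
      have h1 : a * s * a⁻¹ = g * s * g⁻¹ := LinearEquiv.ext fun x => by
        change a (s (a⁻¹ x)) = g (s (g⁻¹ x))
        rw [es, es, qrefl_conj ha, qrefl_conj (EG_le_isom hg), e]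
      rw [h1]
      have := (EG P).mul_mem hg (EG_conj hs ((EG P).inv_mem hg))
      convert this using 1; group
    · exact ⟨EG_le_isom hs, (EG P).mul_mem (EG_conj ha hs) ((EG P).inv_mem hs)⟩
  exact (this hb).2

theorem IsoK.commutator_le_EG {k : ℕ} (h : IsoK P k) (hP : P.B.SeparatingLeft)
    (hn : k + 2 ≤ finrank F V) : ⁅P.Isom, P.Isom⁆ ≤ EG P :=
  Subgroup.commutator_le.2 fun _ ha _ hb => h.commutator_mem_EG hP hn ha hb

end H97
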