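import Mathlib
import Cfsg.Agent.Base
import Cfsg.Agent.Lib.ClassMax.Gen

/-!
Maximality of stabilisers of totally singular, non-degenerate and non-singular subspaces in `E`.
-/

set_option autoImplicit false
set_option linter.unusedSectionVars false

namespace H97

open Module Cfsg H28

variable {F V : Type*} [Field F] [AddCommGroup V] [Module F V] {σ : F →+* F} {P : PQ F V σ}
  [FiniteDimensional F V] {M : Subgroup (V ≃ₗ[F] V)}

theorem stab_of_perp (hP : P.B.SeparatingLeft) {g : V ≃ₗ[F] V} (hg : g ∈ P.Isom) {U : Submodule F V}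
    (h : g ∈ stab (perp P U)) : g ∈ stab U := by
  have := stab_perp hg h
  rwa [perp_perp hP] at this

theorem stab_perp_inf (hP : P.B.SeparatingLeft) (U : Submodule F V) {K : Subgroup (V ≃ₗ[F] V)}
    (hK : K ≤ P.Isom) : stab (perp P U) ⊓ K = stab U ⊓ K := by
  ext g
  exact ⟨fun h => ⟨stab_of_perp hP (hK h.2) h.1, h.2⟩, fun h => ⟨stab_perp (hK h.2) h.1, h.2⟩⟩

theorem mem_stab_of_fix {W : Submodule F V} {g : V ≃ₗ[F] V} (h : ∀ w ∈ W, g w = w) : g ∈ stab W :=
  mem_stab_of_maps fun w hw => by rw [h w hw]; exact hw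

theorem has_eu_stab_of_mem {W : Submodule F V} {d w : V} {c : F} (hd : P.q d ∈ P.Λ)
    (hw : P.B d w = 0) (hc : c - P.q w ∈ P.Λ) (hdW : d ∈ W) (hW : ∀ x ∈ W, P.B d x = 0) :
    Has (stab W ⊓ EG P) (eu P d w c) := by
  obtain ⟨g, hg, e⟩ := has_eu_EG hd hw hc
  refine ⟨g, ⟨mem_stab_of_maps fun x hx => ?_, hg⟩, e⟩
  rw [e, eu_apply, hW x hx]
  simpa using W.add_mem hx (W.smul_mem _ hdW)

theorem has_eu_stab_of_mem' {W : Submodule F V} {d w : V} {c : F} (hd : P.q d ∈ P.Λ)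
    (hw : P.B d w = 0) (hc : c - P.q w ∈ P.Λ) (hdW : d ∈ W) (hwW : w ∈ W) :
    Has (stab W ⊓ EG P) (eu P d w c) := by
  obtain ⟨g, hg, e⟩ := has_eu_EG hd hw hc
  refine ⟨g, ⟨mem_stab_of_maps fun x hx => ?_, hg⟩, e⟩
  rw [e, eu_apply]
  exact W.sub_mem (W.add_mem hx (W.smul_mem _ hdW)) (W.smul_mem _ hwW)

theorem has_eu_stab_of_perp {W : Submodule F V} {d w : V} {c : F} (hd : P.q d ∈ P.Λ)
    (hw : P.B d w = 0) (hc : c - P.q w ∈ P.Λ) (hdW : d ∈ perp P W) (hwW : w ∈ perp P W) :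
    Has (stab W ⊓ EG P) (eu P d w c) := by
  obtain ⟨g, hg, e⟩ := has_eu_EG hd hw hc
  refine ⟨g, ⟨mem_stab_of_fix fun x hx => ?_, hg⟩, e⟩
  rw [e, eu_fix c (mem_perp'.1 hdW x hx) (mem_perp'.1 hwW x hx)]

/-! ### totally singular subspaces -/

/-- `E` does not stabilise a proper non-zero subspace. -/
theorem IsoK.not_EG_le_stab {k : ℕ} (h : IsoK P k) (hP : P.B.SeparatingLeft)
    (hn : k + 2 ≤ finrank F V) {W : Submodule F V} (h0 : W ≠ ⊥) (h1 : W ≠ ⊤) :
    ¬ EG P ≤ stab W := by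
  intro hle
  obtain ⟨x, hx, hx0⟩ := (Submodule.ne_bot_iff W).1 h0
  have hall : ∀ y, y ≠ 0 → P.q x - P.q y ∈ P.Λ → y ∈ W := fun y hy hq => by
    obtain ⟨g, hg, e⟩ := h.exists_EG_apply_eq hP hn hx0 hy hq
    rw [← e]; exact (hle hg x).1 hx
  obtain ⟨z, -, hz⟩ := SetLike.exists_of_lt (lt_top_iff_ne_top.2 h1)
  obtain ⟨a, ha, haz⟩ := exists_orth_of_notMem P.σσ P.B hP W hz
  have ha0 : a ≠ 0 := by rintro rfl; simp at haz
  obtain ⟨e, f, he, hf, hef, hea, hfa⟩ := h.exists_pair hP (F ∙ a)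
    (by have := finrank_span_singleton_le (F := F) a; omega)
  rw [mem_perp_singleton] at hea hfa
  have hfe : P.B f e = P.ε := by rw [P.symm, hef]; simp
  set z' := z - (P.ε * P.B f z) • e - P.B e z • f with hz'
  have h2 : P.B e z' = 0 := by simp [hz', hef, P.self_eq_zero he]
  have h3 : P.B f z' = 0 := by
    simp only [hz', map_sub, map_smul, hfe, P.self_eq_zero hf, smul_eq_mul]
    linear_combination (-P.B f z) * P.εε
  have h4 := hall (z' + (e + (P.q x - P.q z') • f)) (fun h0 => by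
    have := congrArg (P.B f) h0
    simp [h3, hfe, P.self_eq_zero hf, P.ε_ne_zero] at this) (by
    simpa using P.Λ.neg_mem (q_add_pair he hf hef (P.eq_zero_symm h2) (P.eq_zero_symm h3) (P.q x)))
  have h5 := ha _ h4
  simp [hz', haz, hea, hfa] at h5

theorem EG_le_of_totSing (hP : P.B.SeparatingLeft) {W : Submodule F V}
    (hq : ∀ w ∈ W, P.q w ∈ P.Λ) (hB : ∀ w ∈ W, ∀ w' ∈ W, P.B w w' = 0)
    (hex : (∃ l ∈ P.Λ, l ≠ 0) ∨
      ∀ y ∈ perp P W, y ∉ W → P.q y ∈ P.Λ → 2 * (finrank F W + 1) < finrank F V)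
    (hH : stab W ⊓ EG P ≤ M) (hM : M ≤ P.Isom) {g : V ≃ₗ[F] V} (hg : g ∈ M) (hg' : g ∉ stab W) :
    EG P ≤ M := by
  have hA : ∀ d ∈ W, XLe P M d := fun d hd w c hw hc =>
    (has_eu_stab_of_mem (hq d hd) hw hc hd (hB d hd)).mono hH
  obtain ⟨x, hx, hy⟩ := exists_not_maps hg'
  set y := g x with hyd
  have hqy : P.q y ∈ P.Λ := isom_q (hM hg) (hq x hx)
  have hXy : XLe P M y := (hA x hx).apply hg (hM hg)
  by_cases h1 : y ∈ perp P W
  swap
  · simp only [mem_perp, not_forall] at h1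
    obtain ⟨w, hw, hwy⟩ := h1
    exact EG_le_of_xle hP (hq w hw) hqy (hA w hw) hXy hwy
  obtain ⟨e, he, hey, heW⟩ := P.exists_partner hP W hy hqy (mem_perp'.1 h1)
  have hye : P.B y e = P.ε := by rw [P.symm, hey]; simp
  have key : ∃ w c, w ∈ perp P W ∧ P.B e w = 0 ∧ P.B y w = 0 ∧ c - P.q w ∈ P.Λ ∧ c ≠ 0 := by
    by_cases hΛ : ∃ l ∈ P.Λ, l ≠ 0
    · obtain ⟨l, hl, hl0⟩ := hΛ
      exact ⟨0, l, Submodule.zero_mem _, by simp, by simp, P.Λ.sub_mem hl P.q_zero, hl0⟩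
    have hdim := (hex.resolve_left hΛ) y h1 hy hqy
    push Not at hΛ
    by_contra hc
    push Not at hc
    set U := perp P (W ⊔ Submodule.span F {e, y}) with hU
    have hUmem : ∀ u, u ∈ U ↔ u ∈ perp P W ∧ P.B e u = 0 ∧ P.B y u = 0 := fun u => by
      rw [hU, perp_sup, Submodule.mem_inf, mem_perp_span]; simp
    have hUq : ∀ u ∈ U, P.q u = 0 := fun u hu =>
      hc u _ ((hUmem u).1 hu).1 ((hUmem u).1 hu).2.1 ((hUmem u).1 hu).2.2 (by simp)
    have hUU : U ≤ W := fun u hu => by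
      have h2 : u ∈ perp P U := fun v hv => by
        have := hΛ _ (P.q_add v u)
        rw [hUq _ (U.add_mem hv hu), hUq u hu, hUq v hv] at this
        simpa using this
      rw [hU, perp_perp hP] at h2
      obtain ⟨a, ha, b, hb, rfl⟩ := Submodule.mem_sup.1 h2
      obtain ⟨s, t, rfl⟩ := Submodule.mem_span_pair.1 hb
      obtain ⟨-, h3, h4⟩ := (hUmem _).1 hu
      simp only [map_add, map_smul, heW a ha, mem_perp'.1 h1 a ha, P.self_eq_zero he,
        P.self_eq_zero hqy, hey, hye, smul_eq_mul, mul_zero, mul_one, zero_add, add_zero,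
        mul_eq_zero] at h3 h4
      simpa [h3, h4.resolve_right P.ε_ne_zero] using ha
    have h5 := Submodule.finrank_mono hUU
    have h6 := finrank_le_perp (P := P) (W ⊔ Submodule.span F {e, y})
    have h7 := finrank_sup_le' W (Submodule.span F {e, y})
    have h8 : finrank F (Submodule.span F ({e, y} : Set V)) ≤ 2 := by
      rw [Submodule.span_insert]
      have := finrank_sup_le' (F ∙ e) (F ∙ y)
      have := finrank_span_singleton_le (F := F) e
      have := finrank_span_singleton_le (F := F) y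
      omega
    rw [← hU] at h6
    omega
  obtain ⟨w, c, hwW, hew, hyw, hc, hc0⟩ := key
  obtain ⟨s, hs, es⟩ := has_eu_stab_of_perp he hew hc (mem_perp'.2 heW) hwW
  have hsM := hH hs
  refine EG_le_of_xle hP hqy (isom_q (hM hsM) hqy) hXy (hXy.apply hsM (hM hsM)) ?_
  rw [es, eu_apply]
  simp [P.self_eq_zero hqy, hey, hye, hyw, P.eq_zero_symm hyw, hc0, P.ε_ne_zero]

theorem IsoK.isMaximalIn_totSing {k : ℕ} (h : IsoK P k) (hP : P.B.SeparatingLeft)
    (hn : k + 2 ≤ finrank F V) {W : Submodule F V} (h0 : W ≠ ⊥)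
    (hq : ∀ w ∈ W, P.q w ∈ P.Λ) (hB : ∀ w ∈ W, ∀ w' ∈ W, P.B w w' = 0)
    (hex : (∃ l ∈ P.Λ, l ≠ 0) ∨
      ∀ y ∈ perp P W, y ∉ W → P.q y ∈ P.Λ → 2 * (finrank F W + 1) < finrank F V) :
    Geo.IsMaximalIn (EG P) (stab W ⊓ EG P) := by
  refine isMaximalIn_of inf_le_right (fun hle => h.not_EG_le_stab hP hn h0 ?_ (hle.trans inf_le_left))
    fun M h1 h2 ⟨g, hg, hg'⟩ => EG_le_of_totSing hP hq hB hex h1 (h2.trans EG_le_isom) hg
      fun hs => hg' ⟨hs, h2 hg⟩
  rintro rfl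
  obtain ⟨x, -, hx0⟩ := (Submodule.ne_bot_iff _).1 h0
  exact hx0 (hP x fun y => hB x trivial y trivial)

/-! ### the subspace of parameters -/

theorem has_eu_valid {d w : V} {c c' : F} (hd : P.q d ∈ P.Λ) (hw : P.B d w = 0)
    (h : Has M (eu P d w c)) (h0 : Has M (eu P d 0 (c' - c))) : Has M (eu P d w c') :=
  (h.comp h0).congr fun x => by
    rw [eu_comp (P.self_eq_zero hd) hw (by simp)]; simp

theorem has_eu_add {d w w' : V} {c c' : F} (hd : P.q d ∈ P.Λ) (hw : P.B d w = 0)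
    (hw' : P.B d w' = 0) (h : Has M (eu P d w c)) (h' : Has M (eu P d w' c')) :
    Has M (eu P d (w + w') (c + c' + P.B w w')) :=
  (h.comp h').congr fun x => eu_comp (P.self_eq_zero hd) hw hw' c c' x

theorem has_eu_neg {d w : V} {c : F} (hd : P.q d ∈ P.Λ) (hw : P.B d w = 0)
    (h : Has M (eu P d w c)) : Has M (eu P d (-w) (P.B w w - c)) :=
  h.inv fun x => by
    rw [eu_comp (P.self_eq_zero hd) hw (by simp [hw])]
    simp [eu_zero]

variable (P) in
/-- The isometries stabilising `W` act irreducibly on `W`. -/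
def Irr (W : Submodule F V) : Prop :=
  ∀ Y ≤ W, (∀ g ∈ P.Isom, g ∈ stab W → ∀ y ∈ Y, g y ∈ Y) → Y = ⊥ ∨ Y = W

/-- An element of `E` acting on `W` as a given isometry, and moving `d` to `d'`. -/
theorem IsoK.exists_EG_agree_move {k : ℕ} (h : IsoK P k) (hP : P.B.SeparatingLeft)
    (hn : k + 2 ≤ finrank F V) {W : Submodule F V} {d d' e f : V} (hq : P.q d' - P.q d ∈ P.Λ)
    (hdW : d ∈ perp P W) (hd'W : d' ∈ perp P W) (hd : d ∉ W) (hd' : d' ∉ W) (he : P.q e ∈ P.Λ)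
    (hf : P.q f ∈ P.Λ) (hef : P.B e f = 1) (heU : e ∈ perp P (W ⊔ F ∙ d))
    (hfU : f ∈ perp P (W ⊔ F ∙ d)) {g : V ≃ₗ[F] V} (hg : g ∈ P.Isom) (hgW : g ∈ stab W) :
    ∃ g' ∈ stab W ⊓ EG P, (∀ u ∈ W, g' u = g u) ∧ g' d = d' := by
  obtain ⟨s, hs, hsd, hsW⟩ := P.witt_step hP W (u := g d) (v := d') (fun h => hd ((hgW d).2 h)) hd'
    (by simpa using P.Λ.sub_mem hq (hg.2 d)) (fun u hu => by
      rw [mem_perp'.1 hd'W u hu, mem_perp'.1 ((stab_perp hg hgW d).1 hdW) u hu])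
  obtain ⟨g', hg', e'⟩ := h.exists_EG_agree hP hn he hf hef heU hfU (P.Isom.mul_mem hs hg)
  have h1 : ∀ u ∈ W, g' u = g u := fun u hu => by
    rw [e' u (Submodule.mem_sup_left hu), le_mul_apply, hsW _ ((hgW u).1 hu)]
  refine ⟨g', ⟨mem_stab_of_maps fun u hu => ?_, hg'⟩, h1, ?_⟩
  · rw [h1 u hu]; exact (hgW u).1 hu
  · rw [e' d (Submodule.mem_sup_right (Submodule.mem_span_singleton_self d)), le_mul_apply, hsd]

theorem IsoK.EG_le_of_gain {k : ℕ} (h : IsoK P k) (hP : P.B.SeparatingLeft)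
    (hn : k + 2 ≤ finrank F V) {W : Submodule F V} (hirr : Irr P W) {d e f y : V} {c : F}
    (hd : P.q d ∈ P.Λ) (hdW : d ∈ perp P W) (hd' : d ∉ W) (he : P.q e ∈ P.Λ)
    (hf : P.q f ∈ P.Λ) (hef : P.B e f = 1) (heU : e ∈ perp P (W ⊔ F ∙ d))
    (hfU : f ∈ perp P (W ⊔ F ∙ d)) (hH : stab W ⊓ EG P ≤ M) (hdy : P.B d y = 0)
    (hc : c - P.q y ∈ P.Λ) (hy : y ∉ perp P W) (hM : Has M (eu P d y c)) : EG P ≤ M := by
  have hin : ∀ w c, w ∈ perp P W → P.B d w = 0 → c - P.q w ∈ P.Λ → Has M (eu P d w c) :=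
    fun w c hw hdw hc => (has_eu_stab_of_perp hd hdw hc hdW hw).mono hH
  have hval : ∀ w c c', P.B d w = 0 → c - P.q w ∈ P.Λ → c' - P.q w ∈ P.Λ → Has M (eu P d w c) →
      Has M (eu P d w c') := fun w c c' hw hc hc' hM =>
    has_eu_valid hd hw hM (hin 0 _ (Submodule.zero_mem _) (by simp) (by
      have := P.Λ.sub_mem (P.Λ.sub_mem hc' hc) P.q_zero
      convert this using 1; ring))
  have hadd : ∀ w w', P.B d w = 0 → P.B d w' = 0 → Has M (eu P d w (P.q w)) →
      Has M (eu P d w' (P.q w')) → Has M (eu P d (w + w') (P.q (w + w'))) :=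
    fun w w' hw hw' h1 h2 => hval _ _ _ (by simp [hw, hw']) (valid_add (by simp) (by simp)) (by simp)
      (has_eu_add hd hw hw' h1 h2)
  let S : Submodule F V :=
    { carrier := {w | P.B d w = 0 ∧ Has M (eu P d w (P.q w))}
      zero_mem' := ⟨by simp, hin 0 _ (Submodule.zero_mem _) (by simp) (by simp)⟩
      add_mem' := by
        rintro w w' ⟨hw, h1⟩ ⟨hw', h2⟩
        exact ⟨by simp [hw, hw'], hadd w w' hw hw' h1 h2⟩
      smul_mem' := by
        rintro a w ⟨hw, h1⟩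
        refine ⟨by simp [hw], ?_⟩
        by_cases ha : a = 0
        · rw [ha, zero_smul]; exact hin 0 _ (Submodule.zero_mem _) (by simp) (by simp)
        have hσ : σ a ≠ 0 := by simpa using ha
        obtain ⟨s, hs, hsW, hsd⟩ := h.exists_EG_agree_move hP hn (d' := σ a • d)
          (P.Λ.sub_mem (P.q_smul_mem hd _) hd) hdW (Submodule.smul_mem _ _ hdW) hd'
          (fun hh => hd' ((W.smul_mem_iff hσ).1 hh)) he hf hef heU hfU P.Isom.one_mem
          (stab W).one_mem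
        have hsI := EG_le_isom hs.2
        have h2 := has_eu_conj h1 (hH hs) hsI
        have h3 : P.B d (s w) = 0 := by
          have := hsI.1 d w
          rw [hsd, B_smul_left, P.σσ, hw] at this
          exact (mul_eq_zero.1 this).resolve_left ha
        rw [hsd] at h2
        have h4 : Has M (eu P d (a • s w) (P.q (a • s w))) := by
          refine hval _ (a * σ a * P.q w) _ (by simp [h3]) ?_ (by simp)
            (h2.congr fun x => by rw [eu_smul, P.σσ])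
          have := valid_smul a (isom_valid hsI (w := w) (c := P.q w) (by simp))
          rwa [mul_comm (σ a) a] at this
        have h5 : a • (w - s w) ∈ perp P W := Submodule.smul_mem _ _ fun u hu => by
          have := hsI.1 u w
          rw [hsW u hu] at this
          simp [← this]
        have h6 := hadd _ _ (by simp [h3]) (by simp [h3, hw]) h4
          (hin _ _ h5 (by simp [h3, hw]) (by simp))
        have h7 : a • s w + a • (w - s w) = a • w := by module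
        rwa [h7] at h6 }
  have hSd : ∀ w ∈ S, P.B d w = 0 := fun w hw => hw.1
  have hY := hirr (W ⊓ perp P S) inf_le_left (fun g hg hgW u hu => by
    obtain ⟨s, hs, hsW, hsd⟩ := h.exists_EG_agree_move hP hn (d' := d) (by simp) hdW hdW hd' hd'
      he hf hef heU hfU hg hgW
    have hsI := EG_le_isom hs.2
    refine ⟨(hgW u).1 hu.1, fun w hw => ?_⟩
    have h1 : s⁻¹ d = d := by
      conv_lhs => rw [← hsd]
      rw [le_inv_apply_apply]
    have h2 : s⁻¹ w ∈ S := by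
      have h3 := has_eu_conj hw.2 (M.inv_mem (hH hs)) (P.Isom.inv_mem hsI)
      have h4 : P.B d (s⁻¹ w) = 0 := by rw [← h1, (P.Isom.inv_mem hsI).1, hw.1]
      rw [h1] at h3
      exact ⟨h4, hval _ _ _ h4 (isom_valid (P.Isom.inv_mem hsI) (by simp)) (by simp) h3⟩
    rw [← hsW u hu.1, ← le_apply_inv s w, hsI.1]
    exact hu.2 _ h2)
  have hyS : y ∈ S := ⟨hdy, hval _ _ _ hdy hc (by simp) hM⟩
  have hY0 : W ⊓ perp P S = ⊥ := hY.resolve_right fun h1 => hy fun u hu => by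
    rw [← h1] at hu
    exact P.eq_zero_symm (hu.2 y hyS)
  have hX : XLe P M d := by
    intro w c hw hc
    suffices h1 : w ∈ S from hval _ _ _ hw (by simp) hc h1.2
    rw [← perp_perp hP S]
    intro z hz
    have h1 : z ∈ perp P (perp P (W ⊔ F ∙ d)) := fun u hu => by
      rw [perp_sup] at hu
      have h2 := mem_perp_singleton.1 hu.2
      exact hz u ⟨h2, hin _ _ hu.1 h2 (by simp)⟩
    rw [perp_perp hP] at h1
    obtain ⟨a, ha, b, hb, rfl⟩ := Submodule.mem_sup.1 h1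
    obtain ⟨t, rfl⟩ := Submodule.mem_span_singleton.1 hb
    have h2 : a ∈ W ⊓ perp P S := ⟨ha, fun u hu => by
      have := hz u hu
      simpa [P.eq_zero_symm (hSd u hu)] using this⟩
    rw [hY0, Submodule.mem_bot] at h2
    simp [h2, hw]
  obtain ⟨d', hd'q, hdd', hd'W⟩ := P.exists_partner hP W hd' hd (mem_perp'.1 hdW)
  obtain ⟨s, hs, -, hsd⟩ := h.exists_EG_agree_move hP hn (d' := d') (P.Λ.sub_mem hd'q hd) hdW
    (mem_perp'.2 hd'W) hd' (fun hh => by simp [hdW d' hh] at hdd') he hf hef heU hfU P.Isom.one_mem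
    (stab W).one_mem
  refine EG_le_of_xle hP hd'q hd (hsd ▸ hX.apply (hH hs) (EG_le_isom hs.2)) hX (by simp [hdd'])

/-- A subspace invariant under the root elements supported on `perp W` contains `perp W` or is
perpendicular to it. -/
theorem le_or_le_of_invariant (hP : P.B.SeparatingLeft) {W T : Submodule F V}
    (hW : ∀ w ∈ W, w ∈ perp P W → P.q w ∈ P.Λ → w = 0)
    (hpair : ∀ d ∈ perp P W, ∃ e f, P.q e ∈ P.Λ ∧ P.q f ∈ P.Λ ∧ P.B e f = 1 ∧
      e ∈ perp P (W ⊔ F ∙ d) ∧ f ∈ perp P (W ⊔ F ∙ d))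
    (hT : ∀ d w c, d ∈ perp P W → w ∈ perp P W → P.q d ∈ P.Λ → P.B d w = 0 → c - P.q w ∈ P.Λ →
      ∀ u ∈ T, eu P d w c u ∈ T) : perp P W ≤ T ∨ perp P W ≤ perp P T := by
  have step : ∀ d ∈ perp P W, P.q d ∈ P.Λ → ∀ u ∈ T, P.B d u ≠ 0 →
      d ∈ T ∧ ∀ w ∈ perp P W, P.B d w = 0 → w ∈ T := by
    intro d hdW hd u hu hdu
    have h1 : ∀ w c, w ∈ perp P W → P.B d w = 0 → c - P.q w ∈ P.Λ →
        (P.B w u - P.ε * c * P.B d u) • d - (P.ε * P.B d u) • w ∈ T := fun w c hw hdw hc => by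
      have := T.sub_mem (hT d w c hdW hw hd hdw hc u hu) hu
      rw [eu_apply] at this
      convert this using 1; abel
    obtain ⟨e, f, he, hf, hef, heU, hfU⟩ := hpair d hdW
    rw [perp_sup, Submodule.mem_inf, mem_perp_singleton] at heU hfU
    have h2 : d ∈ T := by
      have := T.sub_mem (T.add_mem (h1 e 0 heU.1 heU.2 (by simpa using he))
        (h1 f 0 hfU.1 hfU.2 (by simpa using hf))) (h1 (e + f) 1 ((perp P W).add_mem heU.1 hfU.1)
        (by simp [heU.2, hfU.2]) (by simpa using P.Λ.neg_mem (q_pair he hf hef 1)))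
      refine (T.smul_mem_iff (mul_ne_zero P.ε_ne_zero hdu)).1 ?_
      convert this using 1
      simp only [map_add, LinearMap.add_apply]
      module
    refine ⟨h2, fun w hw hdw => ?_⟩
    have := T.sub_mem (T.smul_mem (P.B w u - P.ε * P.q w * P.B d u) h2)
      (h1 w (P.q w) hw hdw (by simp))
    rw [sub_sub_cancel] at this
    exact (T.smul_mem_iff (mul_ne_zero P.ε_ne_zero hdu)).1 this
  by_cases hs : ∀ d ∈ perp P W, P.q d ∈ P.Λ → d ∈ perp P T
  · right
    intro x hx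
    obtain ⟨e, f, he, hf, hef, heU, hfU⟩ := hpair x hx
    rw [perp_sup, Submodule.mem_inf, mem_perp_singleton] at heU hfU
    have h1 := hs _ ((perp P W).add_mem hx ((perp P W).add_mem heU.1
      ((perp P W).smul_mem (0 - P.q x) hfU.1))) (by simpa using q_add_pair he hf hef heU.2 hfU.2 0)
    exact ((perp P T).add_mem_iff_left ((perp P T).add_mem (hs e heU.1 he)
      ((perp P T).smul_mem _ (hs f hfU.1 hf)))).1 h1
  left
  push Not at hs
  obtain ⟨d, hdW, hd, hdT⟩ := hs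
  simp only [mem_perp', not_forall] at hdT
  obtain ⟨u, hu, hdu⟩ := hdT
  obtain ⟨h1, h2⟩ := step d hdW hd u hu hdu
  have hd' : d ∉ W := fun hh => hdu (by simp [hW d hh hdW hd])
  obtain ⟨e, he, hed, heW⟩ := P.exists_partner hP W hd' hd (mem_perp'.1 hdW)
  obtain ⟨h3, -⟩ := step e (mem_perp'.2 heW) he d h1 (by simp [hed])
  have hde : P.B d e = P.ε := by rw [P.symm, hed]; simp
  intro x hx
  have h4 := h2 (x - (P.ε * P.B d x) • e) ((perp P W).sub_mem hx
    ((perp P W).smul_mem _ (mem_perp'.2 heW))) (by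
      simp only [map_sub, map_smul, hde, smul_eq_mul]
      linear_combination (-P.B d x) * P.εε)
  simpa using T.add_mem h4 (T.smul_mem (P.ε * P.B d x) h3)

theorem finrank_span_triple_le (x y z : V) : finrank F (Submodule.span F ({x, y, z} : Set V)) ≤ 3 := by
  classical
  exact (finrank_span_le_card (R := F) ({x, y, z} : Set V)).trans (by
    simpa using Finset.card_le_three)

theorem IsoK.EG_le_of_not_stab {k : ℕ} (h : IsoK P k) (hP : P.B.SeparatingLeft)
    {W : Submodule F V} (hirr : Irr P W) (hW : ∀ w ∈ W, w ∈ perp P W → P.q w ∈ P.Λ → w = 0)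
    (hpair : ∀ d ∈ perp P W, ∃ e f, P.q e ∈ P.Λ ∧ P.q f ∈ P.Λ ∧ P.B e f = 1 ∧
      e ∈ perp P (W ⊔ F ∙ d) ∧ f ∈ perp P (W ⊔ F ∙ d))
    (hdim : k + 3 ≤ finrank F (perp P W)) (hH : stab W ⊓ EG P ≤ M) (hM : M ≤ P.Isom)
    {g : V ≃ₗ[F] V} (hg : g ∈ M) (hg' : g ∉ stab W) (hswap : ¬ ∀ x ∈ perp P W, g x ∈ W) :
    EG P ≤ M := by
  have hgI := hM hg
  have hn : k + 2 ≤ finrank F V := by have := Submodule.finrank_le (perp P W); omega
  by_cases hT : ∀ d w c, d ∈ perp P W → w ∈ perp P W → P.q d ∈ P.Λ → P.B d w = 0 →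
      c - P.q w ∈ P.Λ → ∀ u ∈ (perp P W).comap (g : V →ₗ[F] V),
        eu P d w c u ∈ (perp P W).comap (g : V →ₗ[F] V)
  · exfalso
    rcases le_or_le_of_invariant hP hW hpair hT with h1 | h1
    · exact hg' (stab_of_perp hP hgI (mem_stab_of_maps h1))
    · refine hswap fun x hx => ?_
      rw [← perp_perp hP W]
      intro u hu
      rw [← le_apply_inv g u, hgI.1]
      exact h1 hx _ (by rw [Submodule.mem_comap, LinearEquiv.coe_coe, le_apply_inv]; exact hu)
  push Not at hT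
  obtain ⟨d', w', c', hd'W, hw'W, hd', hd'w', hc', u, hu, hu'⟩ := hT
  rw [Submodule.mem_comap, LinearEquiv.coe_coe] at hu hu'
  obtain ⟨x, hx, ex⟩ := has_eu_conj ((has_eu_stab_of_perp hd' hd'w' hc' hd'W hw'W).mono hH) hg hgI
  have hxu : x (g u) ∉ perp P W := by rwa [ex, ← eu_conj hgI, le_inv_apply_apply]
  have h1 := finrank_inf_perp (P := P) (perp P W) (Submodule.span F {g d', g w', g u})
  have h2 := finrank_span_triple_le (F := F) (g d') (g w') (g u)
  obtain ⟨d, ⟨hdW, hdp⟩, hd0, hd⟩ := h (perp P W ⊓ perp P (Submodule.span F {g d', g w', g u}))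
    (by omega)
  have hdp' := mem_perp_span.1 hdp
  have hxd : x d = d := by rw [ex, eu_fix _ (hdp' _ (by simp)) (hdp' _ (by simp))]
  have hdu : P.B d (g u) = 0 := P.eq_zero_symm (hdp' _ (by simp))
  have h3 := has_eu_conj ((has_eu_stab_of_perp hd hdu (c := P.q (g u)) (by simp) hdW hu).mono hH)
    hx (hM hx)
  rw [hxd] at h3
  obtain ⟨e, f, he, hf, hef, heU, hfU⟩ := hpair d hdW
  exact h.EG_le_of_gain hP hn hirr hd hdW (fun hh => hd0 (hW d hh hdW hd)) he hf hef heU hfU hH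
    (by rw [← hxd, (hM hx).1, hdu]) (isom_valid (hM hx) (by simp)) hxu h3

/-! ### irreducibility -/

theorem irr_of_finrank_le_one {W : Submodule F V} (h : finrank F W ≤ 1) : Irr P W := by
  intro Y hY _
  by_cases h0 : Y = ⊥
  · exact Or.inl h0
  right
  refine Submodule.eq_of_le_of_finrank_le hY (h.trans ?_)
  exact Nat.one_le_iff_ne_zero.2 fun h1 => h0 (Submodule.finrank_eq_zero.1 h1)

theorem exists_qrefl_of_nonsing {z : V} (hz : P.q z ∉ P.Λ) :
    ∃ c, c ≠ 0 ∧ σ c * c * P.q z + P.ε * c ∈ P.Λ := by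
  have h0 : P.q z ≠ 0 := fun h => hz (h ▸ P.Λ.zero_mem)
  have h1 : σ (P.q z) ≠ 0 := by simpa using h0
  refine ⟨-(P.ε * (σ (P.q z))⁻¹), by simp [P.ε_ne_zero, h0], ?_⟩
  convert P.Λ.zero_mem using 1
  simp only [map_neg, map_mul, map_inv₀, P.σσ, P.σε]
  field_simp
  ring

theorem exists_isom_stab_apply_eq (hP : P.B.SeparatingLeft) {W : Submodule F V}
    (hW : W ⊓ perp P W = ⊥) {x y : V} (hx : x ∈ W) (hy : y ∈ W) (hx0 : x ≠ 0) (hy0 : y ≠ 0)
    (hq : P.q y - P.q x ∈ P.Λ) :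
    ∃ g ∈ P.Isom, g ∈ stab W ∧ g x = y ∧ ∀ z ∈ perp P W, g z = z := by
  have h1 : ∀ x ∈ W, x ≠ 0 → x ∉ perp P W := fun x hx hx0 hh =>
    hx0 ((Submodule.mem_bot F).1 (hW ▸ ⟨hx, hh⟩))
  obtain ⟨g, hg, e1, e2⟩ := P.witt_step hP (perp P W) (h1 x hx hx0) (h1 y hy hy0) hq
    fun z hz => by rw [hz x hx, hz y hy]
  exact ⟨g, hg, stab_of_perp hP hg (mem_stab_of_fix e2), e1, e2⟩

theorem exists_notMem_two {W Y Z : Submodule F V} (hY : ¬ W ≤ Y) (hZ : ¬ W ≤ Z) :
    ∃ x ∈ W, x ∉ Y ∧ x ∉ Z := by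
  obtain ⟨a, ha, ha'⟩ := SetLike.not_le_iff_exists.1 hY
  obtain ⟨b, hb, hb'⟩ := SetLike.not_le_iff_exists.1 hZ
  by_cases h1 : a ∈ Z
  swap
  · exact ⟨a, ha, ha', h1⟩
  by_cases h2 : b ∈ Y
  swap
  · exact ⟨b, hb, h2, hb'⟩
  exact ⟨a + b, W.add_mem ha hb, fun h => ha' ((Y.add_mem_iff_left h2).1 h),
    fun h => hb' ((Z.add_mem_iff_right h1).1 h)⟩

/-- A singular vector of a non-degenerate subspace has a partner there. -/
theorem exists_partner_in (hP : P.B.SeparatingLeft) {W : Submodule F V}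
    (hW : W ⊓ perp P W = ⊥) {e : V} (he : e ∈ W) (he0 : e ≠ 0) (hq : P.q e ∈ P.Λ) :
    ∃ f ∈ W, P.q f ∈ P.Λ ∧ P.B f e = 1 := by
  obtain ⟨f, hf, hfe, hfW⟩ := P.exists_partner hP (perp P W) (d := e)
    (fun hh => he0 ((Submodule.mem_bot F).1 (hW ▸ ⟨he, hh⟩))) hq (fun z hz => hz e he)
  refine ⟨f, ?_, hf, hfe⟩
  rw [← perp_perp hP W]
  exact mem_perp'.2 hfW

/-- decomposition along a hyperbolic pair -/
theorem pair_proj {e f : V} (he : P.q e ∈ P.Λ) (hf : P.q f ∈ P.Λ) (hef : P.B e f = 1) (z : V) :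
    P.B e (z - (P.ε * P.B f z) • e - P.B e z • f) = 0 ∧
      P.B f (z - (P.ε * P.B f z) • e - P.B e z • f) = 0 := by
  have hfe : P.B f e = P.ε := by rw [P.symm, hef]; simp
  refine ⟨by simp [hef, P.self_eq_zero he], ?_⟩
  simp only [map_sub, map_smul, hfe, P.self_eq_zero hf, smul_eq_mul]
  linear_combination (-P.B f z) * P.εε

theorem irr_or (hP : P.B.SeparatingLeft) {W : Submodule F V} (hW : W ⊓ perp P W = ⊥) :
    Irr P W ∨ (P.Λ = ⊥ ∧ finrank F W = 2 ∧ (∃ e ∈ W, e ≠ 0 ∧ P.q e ∈ P.Λ) ∧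
      ∀ t : F, t ≠ 0 → t * t = 1) := by
  by_cases hI : Irr P W
  · exact Or.inl hI
  right
  simp only [Irr, not_forall, not_or] at hI
  obtain ⟨Y, hY, hinv, hY0, hY1⟩ := hI
  obtain ⟨y, hy, hy0⟩ := (Submodule.ne_bot_iff Y).1 hY0
  have hWY : ¬ W ≤ Y := fun h => hY1 (le_antisymm hY h)
  have hWZ : ¬ W ≤ perp P Y := fun h =>
    hy0 ((Submodule.mem_bot F).1 (hW ▸ ⟨hY hy, le_perp_comm h hy⟩))
  have hrefl : ∀ z ∈ W, ∀ c, c ≠ 0 → σ c * c * P.q z + P.ε * c ∈ P.Λ → z ∈ Y ∨ z ∈ perp P Y := by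
    intro z hz c hc0 hc
    by_cases h1 : z ∈ perp P Y
    · exact Or.inr h1
    left
    simp only [mem_perp', not_forall] at h1
    obtain ⟨u, hu, hzu⟩ := h1
    obtain ⟨s, hs, es⟩ := has_qrefl_isom hP hc
    have := hinv s hs (mem_stab_of_maps fun v hv => by
      rw [es, PQ.qrefl_apply]; exact W.add_mem hv (W.smul_mem _ hz)) u hu
    rw [es, PQ.qrefl_apply, Y.add_mem_iff_right hu] at this
    exact (Y.smul_mem_iff (mul_ne_zero hc0 hzu)).1 this
  obtain ⟨f, hfW, hfY, hfZ⟩ := exists_notMem_two hWY hWZ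
  have hf : P.q f ∈ P.Λ := by
    by_contra h1
    obtain ⟨c, hc0, hc⟩ := exists_qrefl_of_nonsing h1
    exact (hrefl f hfW c hc0 hc).elim hfY hfZ
  have hΛ : ∀ l ∈ P.Λ, l = 0 := fun l hl => by
    by_contra h1
    exact (hrefl f hfW _ (by simp [h1, P.ε_ne_zero]) (qrefl_valid_of_sing hf hl)).elim hfY hfZ
  have hf0 : f ≠ 0 := fun h => hfY (h ▸ Y.zero_mem)
  have hε : P.ε = 1 := by have := hΛ _ (P.sub_mem 1); simp at this; linear_combination -this
  have hσ : ∀ a, σ a = a := fun a => by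
    have := hΛ _ (P.sub_mem a); rw [hε] at this; linear_combination -this
  obtain ⟨e, heW, he, hef⟩ := exists_partner_in hP hW hfW hf0 hf
  have hfe : P.B f e = 1 := by rw [P.symm, hef, hε]; simp
  have he0 : e ≠ 0 := by rintro rfl; simp at hef
  -- properties of an invariant subspace
  have main : ∀ Y ≤ W, (∀ g ∈ P.Isom, g ∈ stab W → ∀ y ∈ Y, g y ∈ Y) → f ∉ Y → ∀ y ∈ Y, y ≠ 0 →
      P.q y ≠ 0 ∧ ∀ x ∈ W, x ≠ 0 → P.q x - P.q y ∈ P.Λ → x ∈ Y := by
    intro Y hY hinv hfY y hy hy0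
    have h1 : ∀ x ∈ W, x ≠ 0 → P.q x - P.q y ∈ P.Λ → x ∈ Y := fun x hx hx0 hq => by
      obtain ⟨g, hg, hgW, e1, -⟩ := exists_isom_stab_apply_eq hP hW (hY hy) hx hy0 hx0 hq
      rw [← e1]; exact hinv g hg hgW y hy
    exact ⟨fun h0 => hfY (h1 f hfW hf0 (by simpa [h0] using hf)), h1⟩
  have main2 : ∀ Y ≤ W, (∀ g ∈ P.Isom, g ∈ stab W → ∀ y ∈ Y, g y ∈ Y) → f ∉ Y → Y ≠ ⊥ →
      ∀ u ∈ W, P.B e u = 0 → P.B f u = 0 → u - P.q u • f ∈ Y ∧ u - P.q u • e ∈ Y := by
    intro Y hY hinv hfY hY0 u hu heu hfu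
    obtain ⟨y, hy, hy0⟩ := (Submodule.ne_bot_iff Y).1 hY0
    obtain ⟨-, h1⟩ := main Y hY hinv hfY y hy hy0
    have key : ∀ e f : V, e ∈ W → f ∈ W → P.q e ∈ P.Λ → P.q f ∈ P.Λ → P.B e f = 1 → P.B e u = 0 →
        P.B f u = 0 → u - P.q u • f ∈ Y := by
      intro e f heW hfW he hf hef heu hfu
      have h2 := h1 _ (W.add_mem heW (W.smul_mem _ hfW)) (pair_ne_zero hf hef (P.q y))
        (q_pair he hf hef _)
      have h3 := h1 (u + (e + (P.q y - P.q u) • f))
        (W.add_mem hu (W.add_mem heW (W.smul_mem _ hfW))) (fun h0 => by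
          have := congrArg (fun x => P.B x f) h0
          simp [hef, P.self_eq_zero hf, P.eq_zero_symm hfu] at this)
        (q_add_pair he hf hef (P.eq_zero_symm heu) (P.eq_zero_symm hfu) _)
      convert Y.sub_mem h3 h2 using 1
      module
    exact ⟨key e f heW hfW he hf hef heu hfu, key f e hfW heW hf he hfe hfu heu⟩
  have hZinv : ∀ g ∈ P.Isom, g ∈ stab W → ∀ y ∈ W ⊓ perp P Y, g y ∈ W ⊓ perp P Y :=
    fun g hg hgW z hz => ⟨(hgW z).1 hz.1,
      (stab_perp hg (mem_stab_of_maps (hinv g hg hgW)) z).1 hz.2⟩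
  have hZ0 : W ⊓ perp P Y ≠ ⊥ := fun h0 => by
    have h1 := finrank_inf_perp (P := P) W Y
    rw [h0, finrank_bot, zero_add] at h1
    exact hY1 (Submodule.eq_of_le_of_finrank_le hY h1)
  have hu0 : ∀ u ∈ W, P.B e u = 0 → P.B f u = 0 → u = 0 := by
    intro u hu heu hfu
    obtain ⟨h1, h2⟩ := main2 Y hY hinv hfY hY0 u hu heu hfu
    obtain ⟨h3, -⟩ := main2 _ inf_le_left hZinv (fun h => hfZ h.2) hZ0 u hu heu hfu
    have h4 := h3.2 _ (Y.sub_mem h1 h2)
    have h5 : P.q u = 0 := by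
      simp only [map_sub, map_smul, B_smul_left, LinearMap.sub_apply, heu, hfu, hef, hσ,
        P.self_eq_zero hf, smul_eq_mul] at h4
      have : P.q u * P.q u = 0 := by linear_combination -h4
      simpa using this
    by_contra h0
    exact (main Y hY hinv hfY u (by simpa [h5] using h1) h0).1 h5
  refine ⟨(AddSubgroup.eq_bot_iff_forall _).2 hΛ, ?_, ⟨f, hfW, hf0, hf⟩, fun t ht => ?_⟩
  · have h1 : W = Submodule.span F (Set.range ![e, f]) := by
      refine le_antisymm (fun z hz => ?_) (Submodule.span_le.2 ?_)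
      · obtain ⟨h2, h3⟩ := pair_proj he hf hef z
        have h4 := hu0 _ (W.sub_mem (W.sub_mem hz (W.smul_mem _ heW)) (W.smul_mem _ hfW)) h2 h3
        rw [Matrix.range_cons_cons_empty, Submodule.mem_span_pair]
        exact ⟨P.ε * P.B f z, P.B e z, by linear_combination (norm := module) -h4⟩
      · rw [Matrix.range_cons_cons_empty]
        rintro _ (rfl | rfl) <;> assumption
    rw [h1, finrank_span_eq_card (LinearIndependent.pair_iff.2 fun a b hab => ?_)]
    · simp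
    · have h2 := congrArg (P.B e) hab
      have h3 := congrArg (P.B f) hab
      simp [hef, hfe, P.self_eq_zero he, P.self_eq_zero hf] at h2 h3
      exact ⟨h3, h2⟩
  · obtain ⟨hqy, h1⟩ := main Y hY hinv hfY y hy hy0
    have h2 := h1 _ (W.add_mem heW (W.smul_mem _ hfW)) (pair_ne_zero hf hef (P.q y))
      (q_pair he hf hef _)
    have h3 := h1 (t • (e + ((t * t)⁻¹ * P.q y) • f))
      (W.smul_mem _ (W.add_mem heW (W.smul_mem _ hfW))) (smul_ne_zero ht (pair_ne_zero hf hef _))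
      (by
        have := P.Λ.add_mem (P.q_smul t (e + ((t * t)⁻¹ * P.q y) • f))
          (P.norm_mem t _ (q_pair he hf hef ((t * t)⁻¹ * P.q y)))
        convert this using 1
        rw [hσ]; field_simp; ring)
    rw [Y.smul_mem_iff ht] at h3
    have h4 : ((1 - (t * t)⁻¹) * P.q y) • f ∈ Y := by
      convert Y.sub_mem h2 h3 using 1
      module
    by_contra h5
    refine hfY ((Y.smul_mem_iff (mul_ne_zero ?_ hqy)).1 h4)
    rw [sub_ne_zero]
    exact fun h6 => h5 (inv_eq_one.1 h6.symm)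

theorem card_le_three_of_sq [Fintype F] (h : ∀ t : F, t ≠ 0 → t * t = 1) : Fintype.card F ≤ 3 := by
  classical
  have : (Finset.univ : Finset F) ⊆ {0, 1, -1} := fun t _ => by
    by_cases h0 : t = 0
    · simp [h0]
    · rcases mul_self_eq_one_iff.1 (h t h0) with h1 | h1 <;> simp [h1]
  exact (Finset.card_le_card this).trans Finset.card_le_three

/-- Maximality of the stabiliser of a non-degenerate subspace whose complement is large. -/
theorem IsoK.isMaximalIn_nondeg {k : ℕ} (h : IsoK P k) (hP : P.B.SeparatingLeft)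
    {W : Submodule F V} (hW : W ⊓ perp P W = ⊥) (h0 : W ≠ ⊥) (hirr : Irr P W)
    (hdim : k + 3 ≤ finrank F (perp P W))
    (hswap : ∀ g ∈ P.Isom, ¬ ∀ x ∈ perp P W, g x ∈ W) :
    Geo.IsMaximalIn (EG P) (stab W ⊓ EG P) := by
  have hn : k + 2 ≤ finrank F V := by have := Submodule.finrank_le (perp P W); omega
  refine isMaximalIn_of inf_le_right (fun hle => h.not_EG_le_stab hP hn h0 ?_ (hle.trans inf_le_left))
    fun M h1 h2 ⟨g, hg, hg'⟩ => h.EG_le_of_not_stab hP hirr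
      (fun w hw hw' _ => (Submodule.mem_bot F).1 (hW ▸ ⟨hw, hw'⟩))
      (fun d hd => h.exists_pair_in hP hW ((Submodule.span_singleton_le_iff_mem _ _).2 hd)
        (by have := finrank_span_singleton_le (F := F) d; omega)) hdim h1 (h2.trans EG_le_isom) hg
      (fun hs => hg' ⟨hs, h2 hg⟩) (hswap g (EG_le_isom (h2 hg)))
  rintro rfl
  rw [top_inf_eq] at hW
  rw [hW, finrank_bot] at hdim
  omega

theorem not_swap_of_lt {W : Submodule F V} (h : finrank F W < finrank F (perp P W))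
    (g : V ≃ₗ[F] V) : ¬ ∀ x ∈ perp P W, g x ∈ W := by
  intro hg
  have h1 : (perp P W).map (g : V →ₗ[F] V) ≤ W := by
    rintro _ ⟨x, hx, rfl⟩; exact hg x hx
  have h2 := Submodule.finrank_mono h1
  rw [LinearEquiv.finrank_map_eq] at h2
  omega

/-- Maximality of the stabiliser of a non-singular point. -/
theorem IsoK.isMaximalIn_point {k : ℕ} (h : IsoK P k) (hP : P.B.SeparatingLeft)
    (hn : k + 4 ≤ finrank F V) {v : V} (hv : P.q v ∉ P.Λ) :
    Geo.IsMaximalIn (EG P) (stab (F ∙ v) ⊓ EG P) := by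
  have h1 := finrank_span_singleton_le (F := F) v
  have h2 := finrank_le_perp (P := P) (F ∙ v)
  have hv0 : v ≠ 0 := by rintro rfl; exact hv P.q_zero
  refine isMaximalIn_of inf_le_right (fun hle => h.not_EG_le_stab hP (by omega) (by simpa using hv0)
      ?_ (hle.trans inf_le_left))
    fun M h3 h4 ⟨g, hg, hg'⟩ => h.EG_le_of_not_stab hP (irr_of_finrank_le_one h1) ?_
      (fun d hd => h.exists_pair hP _ ?_) (by omega) h3 (h4.trans EG_le_isom) hg
      (fun hs => hg' ⟨hs, h4 hg⟩) (not_swap_of_lt (by omega) g)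
  · intro h5
    rw [h5, finrank_top] at h1
    omega
  · intro w hw _ hq
    obtain ⟨a, rfl⟩ := Submodule.mem_span_singleton.1 hw
    by_contra h0
    have ha : a ≠ 0 := by rintro rfl; simp at h0
    have := P.q_smul_mem hq a⁻¹
    rw [smul_smul, inv_mul_cancel₀ ha, one_smul] at this
    exact hv this
  · have := finrank_sup_le' (F ∙ v) (F ∙ d)
    have := finrank_span_singleton_le (F := F) d
    omega

end H97
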