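import Mathlib
import Cfsg.Agent.Base
import Cfsg.Agent.Lib.ClassMax.Gen
import Cfsg.Agent.Lib.Forms.Classify
import Cfsg.Agent.Lib.Orth12.Omega
import Cfsg.Agent.Lib.QF.Basic
import Cfsg.Agent.Lib.Sp.Basic
import Cfsg.Agent.Lib.Unitary.Basic

/-!
Identification of the group `E` with `Sp`, `SU`, `Ω`, and the bridges to the matrix groups.
-/

set_option autoImplicit false
set_option linter.unusedSectionVars false

namespace H97

open Module Cfsg H28
open scoped commutatorElement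

section General

variable {F V : Type*} [Field F] [AddCommGroup V] [Module F V] {σ : F →+* F}

theorem has_qrefl_EG_of_sing {P : PQ F V σ} {c : F} {d : V} (hd : P.q d ∈ P.Λ)
    (h : σ c * c * P.q d + P.ε * c ∈ P.Λ) : Has (EG P) (P.qrefl c d) := by
  have h1 : P.ε * c ∈ P.Λ := by simpa using P.Λ.sub_mem h (P.norm_mem c _ hd)
  refine (has_eu_EG (w := 0) (c := -(P.ε * c)) hd (by simp)
    (P.Λ.sub_mem (P.Λ.neg_mem h1) P.q_zero)).congr fun x => ?_
  rw [eu_eq_qrefl]
  congr 2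
  linear_combination c * P.εε

theorem exists_ne_zero_mem {X : Submodule F V} (h : 1 ≤ finrank F X) : ∃ x ∈ X, x ≠ 0 := by
  by_contra hc
  push Not at hc
  have : X = ⊥ := (Submodule.eq_bot_iff X).2 hc
  rw [this, finrank_bot] at h
  omega

theorem isoK_alt (B : LinearMap.BilinForm F V) (hA : ∀ x, B x x = 0) : IsoK (PQ.ofAlt B hA) 1 := by
  intro X hX
  obtain ⟨x, hx, hx0⟩ := exists_ne_zero_mem hX
  exact ⟨x, hx, hx0, trivial⟩

variable [FiniteDimensional F V]

theorem EG_alt {B : LinearMap.BilinForm F V} {hA : ∀ x, B x x = 0} (hB : B.SeparatingLeft) :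
    EG (PQ.ofAlt B hA) = (PQ.ofAlt B hA).Isom :=
  le_antisymm EG_le_isom (isom_le_of_qrefl hB EG_le_isom
    (fun _ _ h => has_qrefl_EG_of_sing trivial h) le_rfl)

theorem isoK_quad [Finite F] (Q : QuadraticForm F V) : IsoK (PQ.ofQuad Q) 3 := by
  intro X hX
  obtain ⟨x, hx, hx0, hq⟩ := exists_singular_of_three_le Q X hX
  exact ⟨x, hx, hx0, hq⟩

theorem EG_quad [Finite F] {Q : QuadraticForm F V} (hQ : (QuadraticMap.polarBilin Q).SeparatingLeft)
    (hn : 5 ≤ finrank F V) : EG (PQ.ofQuad Q) = ⁅(PQ.ofQuad Q).Isom, (PQ.ofQuad Q).Isom⁆ := by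
  refine le_antisymm ?_ ((isoK_quad Q).commutator_le_EG hQ hn)
  have hI : (PQ.ofQuad Q).Isom = H12.O Q := by ext g; exact PQ.mem_isom_ofQuad
  have hN : H12.Nondeg Q := fun v hv => hQ v hv
  rw [hI]
  refine EG_le fun d w c hd hw hc => ?_
  have h1 := H12.eich_mem_Om hN (H12.good_of_finrank_ne hN (by omega)) d w
  refine ⟨(H12.eich Q d w).1, ?_, fun x => ?_⟩
  · rw [← Subgroup.map_subtype_commutator]
    exact ⟨_, h1, rfl⟩
  · have hc' : c = Q w := sub_eq_zero.1 hc
    rw [H12.eich_apply hd hw, eu_apply, hc']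
    change _ = x + (QuadraticMap.polar Q w x - 1 * Q w * QuadraticMap.polar Q d x) • d -
      (1 * QuadraticMap.polar Q d x) • w
    rw [QuadraticMap.polar_comm Q w x, QuadraticMap.polar_comm Q d x]
    module

variable {hσ : ∀ a, σ (σ a) = a} {c : F} {hc : c + σ c = 1} {B : V →ₛₗ[σ] V →ₗ[F] F}
  {hS : ∀ x y, σ (B x y) = B y x}

theorem isoK_herm [Finite F] (hne : σ ≠ RingHom.id F) : IsoK (PQ.ofHerm hσ c hc B hS) 2 := by
  intro X hX
  obtain ⟨x, hx, hx0⟩ := exists_ne_zero_mem (X := X) (by omega)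
  by_cases h1 : B x x = 0
  · exact ⟨x, hx, hx0, PQ.ofHerm_q_mem.2 h1⟩
  have := finrank_inf_ker X (B x)
  obtain ⟨y, hy, hy0⟩ := exists_ne_zero_mem (X := X ⊓ LinearMap.ker (B x)) (by omega)
  have hxy : B x y = 0 := hy.2
  have hyx : B y x = 0 := by rw [← hS, hxy, map_zero]
  obtain ⟨a, ha⟩ := exists_norm_eq hne hσ (t := -(B y y) / B x x) (by
    rw [map_div₀, map_neg, hS, hS])
  refine ⟨y + a • x, X.add_mem hy.1 (X.smul_mem a hx), fun h0 => ?_, PQ.ofHerm_q_mem.2 ?_⟩
  · have h2 := congrArg (B x) h0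
    simp only [map_add, map_smul, hxy, smul_eq_mul, zero_add, map_zero, mul_eq_zero] at h2
    rw [h2.resolve_right h1] at h0
    exact hy0 (by simpa using h0)
  · simp only [map_add, map_smul, LinearMap.map_smulₛₗ, LinearMap.add_apply, LinearMap.smul_apply,
      smul_eq_mul, hxy, hyx]
    field_simp at ha
    linear_combination ha

theorem exists_herm_norm [Finite F] (hne : σ ≠ RingHom.id F) (hσ : ∀ a, σ (σ a) = a)
    (hS : ∀ x y, σ (B x y) = B y x) {x : V} (hx : B x x ≠ 0) {t : F} (ht : σ t = t) :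
    ∃ a : F, B (a • x) (a • x) = t := by
  obtain ⟨a, ha⟩ := exists_norm_eq hne hσ (t := t / B x x) (by rw [map_div₀, hS, ht])
  refine ⟨a, ?_⟩
  simp only [map_smul, LinearMap.map_smulₛₗ, LinearMap.smul_apply, smul_eq_mul]
  field_simp at ha
  linear_combination ha

/-- An isometry fixing `d^⊥` pointwise, for `d` non-isotropic, is a quasi-reflection. -/
theorem eq_of_fix_perp {P : PQ F V σ} (hP : P.B.SeparatingLeft) {d : V} (hd : P.B d d ≠ 0)
    {g : V ≃ₗ[F] V} (hg : g ∈ P.Isom) (h : ∀ x, P.B d x = 0 → g x = x) :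
    ∃ a : F, g d = a • d ∧ ∀ x, g x = x + ((a - 1) * (P.B d d)⁻¹ * P.B d x) • d := by
  have h1 : g d ∈ perp P (perp P (F ∙ d)) := fun u hu => by
    rw [← h u (mem_perp_singleton.1 hu), hg.1]
    exact P.eq_zero_symm (mem_perp_singleton.1 hu)
  rw [perp_perp hP] at h1
  obtain ⟨a, ha⟩ := Submodule.mem_span_singleton.1 h1
  refine ⟨a, ha.symm, fun x => ?_⟩
  have h2 := h (x - ((P.B d d)⁻¹ * P.B d x) • d) (by simp; field_simp; ring)
  rw [map_sub, map_smul, ← ha] at h2
  linear_combination (norm := module) h2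

theorem det_of_rank_one {g : V ≃ₗ[F] V} {φ : Dual F V} {d : V} (h : ∀ x, g x = x + φ x • d) :
    LinearMap.det (g : V →ₗ[F] V) = 1 + φ d := by
  rw [← LinearMap.transvection.det]
  congr 1
  ext x
  exact h x

theorem EG_herm [Finite F] (hne : σ ≠ RingHom.id F) (hB : B.SeparatingLeft)
    (hn : 4 ≤ finrank F V) :
    EG (PQ.ofHerm hσ c hc B hS) = (PQ.ofHerm hσ c hc B hS).Isom ⊓ SLV F V := by
  refine le_antisymm (le_inf EG_le_isom EG_le_SLV) ?_
  set P := PQ.ofHerm hσ c hc B hS with hP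
  obtain ⟨x, -, hx0⟩ := exists_ne_zero_mem (X := (⊤ : Submodule F V)) (by simp; omega)
  obtain ⟨y, hxy⟩ : ∃ y, B x y ≠ 0 := by
    by_contra h
    push Not at h
    exact hx0 (hB x h)
  obtain ⟨d, -, hd⟩ := exists_nonisotropic ⟨c, hc⟩ B hS ⊤ trivial trivial hxy
  rintro g ⟨hg, hg'⟩
  obtain ⟨s, hs, hsI, hgs⟩ := (isoK_herm hne).isom_le_EGmul (P := P) hB hn
    (fixer F {x | B d x = 0}) (fun a e he hae => by
      by_cases h1 : B e e = 0
      · exact Or.inl (has_qrefl_EG_of_sing (PQ.ofHerm_q_mem.2 h1) hae)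
      right
      obtain ⟨t, ht⟩ := exists_herm_norm hne hσ hS hd (hS e e)
      have hq : P.q (t • d) - P.q e ∈ P.Λ := PQ.ofHerm_q_sub.2 ht
      refine ⟨t • d, fun h0 => h1 (by rw [← ht, h0]; simp), hq, ?_⟩
      obtain ⟨s, -, es⟩ := has_qrefl_isom (P := P) hB (qrefl_valid_congr hae hq)
      refine ⟨s, fun u hu => ?_, es⟩
      have hu' : P.B d u = 0 := hu
      rw [es, PQ.qrefl_apply, B_smul_left, hu']
      simp) hg
  have h1 : s ∈ SLV F V := by
    simpa using (SLV F V).mul_mem ((SLV F V).inv_mem (EG_le_SLV hgs)) hg'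
  obtain ⟨a, -, ha⟩ := eq_of_fix_perp (P := P) hB hd hsI hs
  have h2 := det_of_rank_one (g := s) (φ := ((a - 1) * (P.B d d)⁻¹) • P.B d) (d := d) ha
  have hd' : P.B d d ≠ 0 := hd
  rw [mem_SLV.1 h1] at h2
  simp only [LinearMap.smul_apply, smul_eq_mul, inv_mul_cancel_right₀ hd'] at h2
  have h3 : s = 1 := LinearEquiv.ext fun x => by
    rw [ha, show a - 1 = 0 by linear_combination -h2]; simp
  simpa [h3] using hgs

end General

/-! ### matrix groups -/

section Matrix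

open scoped Matrix MatrixGroups

variable {F : Type*} [Field F]

/-- The symplectic data. -/
def spP (m : ℕ) (F : Type*) [Field F] : PQ F (Fin m ⊕ Fin m → F) (RingHom.id F) :=
  PQ.ofAlt (H11.Sp.bilin m F) H11.Sp.form_self

theorem spP_B {m : ℕ} (u v : Fin m ⊕ Fin m → F) : (spP m F).B u v = sympForm m F u v := rfl

theorem spP_nd (m : ℕ) : (spP m F).B.SeparatingLeft := H11.Sp.bilin_nondegenerate.1

theorem spP_isoK (m : ℕ) : IsoK (spP m F) 1 := isoK_alt _ _

theorem spP_EG (m : ℕ) : EG (spP m F) = (spP m F).Isom := EG_alt (spP_nd m)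

theorem spGL_eq' (m : ℕ) : spGL m F = pull (spP m F).Isom := by
  ext g
  exact ⟨fun h => PQ.mem_isom_ofAlt.2 h, fun h => PQ.mem_isom_ofAlt.1 h⟩

theorem spGL_eq (m : ℕ) : spGL m F = pull (EG (spP m F)) := by rw [spP_EG, spGL_eq']

theorem finrank_sp (m : ℕ) : finrank F (Fin m ⊕ Fin m → F) = 2 * m := by simp [two_mul]

section Unitary

open H11.U

variable [Fintype F]

/-- The unitary data. -/
noncomputable def uP (n : ℕ) (F : Type*) [Field F] [Fintype F] (q : ℕ) [IsSq F q] :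
    PQ F (Fin n → F) (cj q) :=
  PQ.ofHerm cj_cj (exists_trace_one cj_ne_id cj_cj).choose
    (exists_trace_one cj_ne_id cj_cj).choose_spec (sesq n F q) fun x y => cj_form y x

variable {n q : ℕ} [IsSq F q]

theorem uP_B (u v : Fin n → F) : (uP n F q).B u v = hermForm n F q v u := rfl

theorem uP_nd : (uP n F q).B.SeparatingLeft := sesq_nondegenerate.1

theorem uP_isoK : IsoK (uP n F q) 2 := isoK_herm cj_ne_id

theorem uP_q_mem {x : Fin n → F} : (uP n F q).q x ∈ (uP n F q).Λ ↔ hermForm n F q x x = 0 :=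
  PQ.ofHerm_q_mem

theorem uP_EG (hn : 4 ≤ n) : EG (uP n F q) = (uP n F q).Isom ⊓ SLV F (Fin n → F) :=
  EG_herm cj_ne_id uP_nd (by simpa using hn)

theorem GU_eq : GU n F q = pull (uP n F q).Isom := by
  ext g
  exact ⟨fun h => PQ.mem_isom_ofHerm.2 fun x y => h y x,
    fun h x y => PQ.mem_isom_ofHerm.1 h y x⟩

theorem SU_eq (hn : 4 ≤ n) : GU n F q ⊓ Geo.specialLinear (Fin n) F = pull (EG (uP n F q)) := by
  rw [uP_EG hn, GU_eq, specialLinear_eq, pull_inf]

end Unitary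

variable {ι : Type} [Fintype ι] [DecidableEq ι]

theorem isometryGroup_eq (Q : QuadraticForm F (ι → F)) :
    isometryGroup F Q = pull (PQ.ofQuad Q).Isom := by
  ext g
  exact ⟨fun h => PQ.mem_isom_ofQuad.2 fun x => h x x, fun h x _ => PQ.mem_isom_ofQuad.1 h x⟩

theorem pull_commutator (M N : Subgroup ((ι → F) ≃ₗ[F] (ι → F))) :
    pull ⁅M, N⁆ = ⁅pull M, pull N⁆ := by
  have h : ∀ M : Subgroup ((ι → F) ≃ₗ[F] (ι → F)),
      pull M = M.map (toLE ι F).symm.toMonoidHom := fun M => by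
    rw [pull]; exact Subgroup.comap_equiv_eq_map_symm' (toLE ι F) M
  rw [h, h, h, Subgroup.map_commutator]

theorem omegaGL_eq [Finite F] {Q : QuadraticForm F (ι → F)}
    (hQ : (QuadraticMap.polarBilin Q).SeparatingLeft) (hn : 5 ≤ Fintype.card ι) :
    Geo.omegaGL Q = pull (EG (PQ.ofQuad Q)) := by
  rw [EG_quad hQ (by simpa using hn), pull_commutator, ← isometryGroup_eq, Geo.omegaGL,
    Subgroup.map_subtype_commutator]

/-- A bilinear form given as a function. -/
def bilOf {f : (ι → F) → (ι → F) → F} (hf : Geo.IsBilinearForm f) : LinearMap.BilinForm F (ι → F) :=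
  LinearMap.mk₂ F f hf.add_left hf.smul_left hf.add_right
    fun c v x => hf.smul_right c v x

theorem bilOf_apply {f : (ι → F) → (ι → F) → F} (hf : Geo.IsBilinearForm f) (x y : ι → F) :
    bilOf hf x y = f x y := rfl

theorem sep_of_nondeg {σ : F →+* F} {B : (ι → F) →ₛₗ[σ] (ι → F) →ₗ[F] F}
    (h : Geo.IsNondegenerateForm fun x y => B x y) : B.SeparatingLeft := by
  intro x hx
  by_contra h0
  obtain ⟨y, hy⟩ := (h x h0).2
  exact hy (hx y)

theorem exists_quadForm {Q : (ι → F) → F} (hQ : Geo.IsNondegenerateQuadraticForm Q) :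
    ∃ Q' : QuadraticForm F (ι → F), Q = Q' ∧ (QuadraticMap.polarBilin Q').SeparatingLeft := by
  refine ⟨⟨Q, fun a x => by rw [hQ.smul, smul_eq_mul, pow_two], bilOf hQ.polar_bilinear,
    fun x y => ?_⟩, rfl, sep_of_nondeg hQ.nondegenerate⟩
  rw [bilOf_apply, QuadraticMap.polar]
  ring

theorem two_ne_zero_of_odd [Fintype F] (h : Odd (Fintype.card F)) : (2 : F) ≠ 0 := by
  intro h2
  have : ringChar F = 2 := by
    have h3 : ringChar F ∣ 2 := (ringChar.spec F 2).1 (by exact_mod_cast h2)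
    rcases (Nat.dvd_prime Nat.prime_two).1 h3 with h4 | h4
    · exact absurd h4 (CharP.ringChar_ne_one)
    · exact h4
  have h4 := FiniteField.even_card_of_char_two this
  rw [Nat.odd_iff] at h
  omega

theorem two_eq_zero_of_not_odd [Fintype F] (h : ¬ Odd (Fintype.card F)) : (2 : F) = 0 := by
  by_contra h2
  have : ringChar F ≠ 2 := by
    intro h3
    exact h2 (by exact_mod_cast (ringChar.spec F 2).2 (by rw [h3]))
  exact h (Nat.odd_iff.2 (FiniteField.odd_card_of_char_ne_two this))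

theorem exists_quadForm_odd [Fintype F] (h : Odd (Fintype.card F)) (m : ℕ) :
    ∃ Q' : QuadraticForm F (Unit ⊕ (Fin m ⊕ Fin m) → F), quadFormOdd m F = Q' ∧
      (QuadraticMap.polarBilin Q').SeparatingLeft :=
  ⟨H66.qOdd m F 1, (H66.coe_qOdd m).symm, (H66.qOdd_nd m (two_ne_zero_of_odd h) one_ne_zero).1⟩

theorem nondegOn_iff {σ : F →+* F} {P : PQ F (ι → F) σ} {f : (ι → F) → (ι → F) → F}
    (hf : ∀ x y, f x y = 0 ↔ P.B x y = 0) {W : Submodule F (ι → F)} :
    Geo.IsNondegenerateOn f W ↔ W ⊓ perp P W = ⊥ := by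
  rw [eq_bot_iff]
  constructor
  · rintro h w ⟨hw, hw'⟩
    by_contra h0
    obtain ⟨x, hx, hx'⟩ := (h w hw h0).1
    exact hx' ((hf _ _).2 (hw' x hx))
  · intro h w hw h0
    have : ∃ x ∈ W, P.B x w ≠ 0 := by
      by_contra hc
      push Not at hc
      exact h0 (h ⟨hw, hc⟩)
    obtain ⟨x, hx, hx'⟩ := this
    exact ⟨⟨x, hx, fun h1 => hx' ((hf _ _).1 h1)⟩,
      ⟨x, hx, fun h1 => B_ne_zero_symm hx' ((hf _ _).1 h1)⟩⟩

end Matrix

end H97
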