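import Mathlib
import Cfsg.Agent.Base
import Cfsg.Agent.Lib.ClassMax.C1
import Cfsg.Agent.Lib.ClassMax.Ident
import Cfsg.Agent.Lib.ClGeo.Disc

/-!
Subspace stabilisers in orthogonal groups.
-/

set_option autoImplicit false
set_option linter.unusedSectionVars false

namespace H97

open Module Cfsg H28

section General

variable {F V : Type*} [Field F] [AddCommGroup V] [Module F V] {σ : F →+* F} {P : PQ F V σ}
  [FiniteDimensional F V]

theorem perp_nondeg (hP : P.B.SeparatingLeft) {W : Submodule F V} (hW : W ⊓ perp P W = ⊥) :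
    perp P W ⊓ perp P (perp P W) = ⊥ := by
  rw [perp_perp hP, inf_comm, hW]

theorem perp_ne_bot (hP : P.B.SeparatingLeft) {W : Submodule F V} (h1 : W ≠ ⊤) : perp P W ≠ ⊥ := by
  intro h
  have := finrank_perp hP W
  rw [h, finrank_bot, zero_add] at this
  exact h1 (Submodule.eq_top_of_finrank_eq this)

/-- Maximality of the stabiliser of a non-degenerate subspace, symmetric form. -/
theorem IsoK.isMaximalIn_nondeg' {k : ℕ} (h : IsoK P k) (hP : P.B.SeparatingLeft)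
    (hn : 2 * k + 5 ≤ finrank F V) {W : Submodule F V} (hW : W ⊓ perp P W = ⊥) (h0 : W ≠ ⊥)
    (h1 : W ≠ ⊤) (hirr : finrank F W ≤ finrank F (perp P W) → Irr P W)
    (hirr' : finrank F (perp P W) < finrank F W → Irr P (perp P W))
    (hswap : finrank F W = finrank F (perp P W) → ∀ g ∈ P.Isom, ¬ ∀ x ∈ perp P W, g x ∈ W) :
    Geo.IsMaximalIn (EG P) (stab W ⊓ EG P) := by
  have h2 := finrank_perp hP W
  rcases lt_trichotomy (finrank F W) (finrank F (perp P W)) with h3 | h3 | h3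
  · exact h.isMaximalIn_nondeg hP hW h0 (hirr h3.le) (by omega) fun g _ => not_swap_of_lt h3 g
  · exact h.isMaximalIn_nondeg hP hW h0 (hirr h3.le) (by omega) (hswap h3)
  · rw [← stab_perp_inf hP W EG_le_isom]
    exact h.isMaximalIn_nondeg hP (perp_nondeg hP hW) (perp_ne_bot hP h1) (hirr' h3)
      (by rw [perp_perp hP]; omega) fun g _ => not_swap_of_lt (by rw [perp_perp hP]; exact h3) g

theorem irr_of_lambda (hP : P.B.SeparatingLeft) {W : Submodule F V} (hW : W ⊓ perp P W = ⊥)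
    (h : ∃ l ∈ P.Λ, l ≠ 0) : Irr P W := by
  refine (irr_or hP hW).resolve_right fun ⟨h1, _⟩ => ?_
  obtain ⟨l, hl, hl0⟩ := h
  rw [h1] at hl
  exact hl0 hl

theorem irr_of_finrank_ne (hP : P.B.SeparatingLeft) {W : Submodule F V} (hW : W ⊓ perp P W = ⊥)
    (h : finrank F W ≠ 2) : Irr P W :=
  (irr_or hP hW).resolve_right fun ⟨_, h1, _⟩ => h h1

variable {Q : QuadraticForm F V}

theorem ofQuad_B (x y : V) : (PQ.ofQuad Q).B x y = QuadraticMap.polar Q x y := rfl

theorem ofQuad_q_mem {x : V} : (PQ.ofQuad Q).q x ∈ (PQ.ofQuad Q).Λ ↔ Q x = 0 := Iff.rfl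

theorem polar_eq_zero_of_ts {W : Submodule F V} (h : ∀ w ∈ W, Q w = 0) :
    ∀ w ∈ W, ∀ w' ∈ W, (PQ.ofQuad Q).B w w' = 0 := fun w hw w' hw' => by
  rw [ofQuad_B, QuadraticMap.polar, h w hw, h w' hw', h _ (W.add_mem hw hw')]; simp

theorem ts_sup_span {W : Submodule F V} (h : ∀ w ∈ W, Q w = 0) {y : V} (hy : Q y = 0)
    (hyW : y ∈ perp (PQ.ofQuad Q) W) : ∀ w ∈ W ⊔ F ∙ y, Q w = 0 := by
  intro w hw
  obtain ⟨a, ha, b, hb, rfl⟩ := Submodule.mem_sup.1 hw
  obtain ⟨t, rfl⟩ := Submodule.mem_span_singleton.1 hb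
  exact sing_add (P := PQ.ofQuad Q) (h a ha) ((PQ.ofQuad Q).q_smul_mem hy t)
    (by simp [hyW a ha])

theorem two_mul_finrank_le_of_ts (hP : P.B.SeparatingLeft) {W : Submodule F V}
    (h : ∀ w ∈ W, ∀ w' ∈ W, P.B w w' = 0) : 2 * finrank F W ≤ finrank F V := by
  have h1 := finrank_perp hP W
  have h2 : W ≤ perp P W := fun w hw u hu => h u hu w hw
  have := Submodule.finrank_mono h2
  omega

theorem two_mul_succ_le (hQ : (PQ.ofQuad Q).B.SeparatingLeft) {W : Submodule F V}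
    (h : ∀ w ∈ W, Q w = 0) {y : V} (hy : Q y = 0) (hyW : y ∈ perp (PQ.ofQuad Q) W) (hy' : y ∉ W) :
    2 * (finrank F W + 1) ≤ finrank F V := by
  rw [← Submodule.finrank_sup_span_singleton hy']
  exact two_mul_finrank_le_of_ts hQ (polar_eq_zero_of_ts (ts_sup_span h hy hyW))

theorem exists_anti_isometry [Finite F] {W : Submodule F V} (hW : W ⊓ perp (PQ.ofQuad Q) W = ⊥)
    (he : Even (finrank F W)) : ∃ φ : W ≃ₗ[F] W, ∀ x : W, Q (φ x) = -Q x := by
  by_cases h2 : (2 : F) = 0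
  · exact ⟨LinearEquiv.refl F W, fun x => by
      simp only [LinearEquiv.refl_apply]; linear_combination (Q x) * h2⟩
  let B : LinearMap.BilinForm F W := LinearMap.BilinForm.restrict (QuadraticMap.polarBilin Q) W
  have hs : B.IsSymm := ⟨fun x y => QuadraticMap.polar_comm Q _ _⟩
  have h0 : ∀ x : W, (∀ y : W, B x y = 0) → x = 0 := fun x hx => by
    have : (x : V) ∈ W ⊓ perp (PQ.ofQuad Q) W := ⟨x.2, mem_perp'.2 fun u hu => hx ⟨u, hu⟩⟩
    rw [hW, Submodule.mem_bot] at this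
    exact Subtype.ext this
  have hB : B.Nondegenerate := ⟨h0, fun x hx => h0 x fun y => by rw [hs.eq]; exact hx y⟩
  have hB' : (-B).Nondegenerate := ⟨fun x hx => hB.1 x fun y => by simpa using hx y,
    fun x hx => hB.2 x fun y => by simpa using hx y⟩
  obtain ⟨φ, hφ⟩ := H30.exists_isometry_of_disc h2 (finBasis F W) (finBasis F W) (-B) B hB' hB
    ⟨fun x y => by simp [hs.eq x y]⟩ hs rfl (by
      have e : LinearMap.BilinForm.toMatrix (finBasis F W) (-B) =
          -LinearMap.BilinForm.toMatrix (finBasis F W) B := by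
        ext i j; simp [LinearMap.BilinForm.toMatrix_apply]
      rw [e, Matrix.det_neg, Fintype.card_fin, he.neg_one_pow, one_mul]
      exact ⟨_, rfl⟩)
  refine ⟨φ, fun x => ?_⟩
  have := hφ x x
  change QuadraticMap.polar Q _ _ = -QuadraticMap.polar Q _ _ at this
  rw [QuadraticMap.polar_self, QuadraticMap.polar_self] at this
  simp only [nsmul_eq_mul, Nat.cast_ofNat, Submodule.subtype_apply] at this
  apply mul_left_cancel₀ h2
  linear_combination this

/-- If an even-dimensional non-degenerate subspace is isometric to its perpendicular, the form has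
plus type. -/
theorem plus_of_swap [Finite F] (hQ : (PQ.ofQuad Q).B.SeparatingLeft) {W : Submodule F V}
    (hW : W ⊓ perp (PQ.ofQuad Q) W = ⊥) (he : Even (finrank F W))
    (hd : finrank F W = finrank F (perp (PQ.ofQuad Q) W)) {g : V ≃ₗ[F] V}
    (hg : g ∈ (PQ.ofQuad Q).Isom) (h : ∀ x ∈ perp (PQ.ofQuad Q) W, g x ∈ W) :
    ∃ U : Submodule F V, (∀ u ∈ U, Q u = 0) ∧ 2 * finrank F U = finrank F V := by
  set W' := perp (PQ.ofQuad Q) W with hW'
  obtain ⟨φ, hφ⟩ := exists_anti_isometry (Q := Q) (W := W') (perp_nondeg hQ hW) (hd ▸ he)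
  let f : W' →ₗ[F] V := W'.subtype ∘ₗ φ.toLinearMap + (g : V →ₗ[F] V) ∘ₗ W'.subtype
  have hf : ∀ x, f x = g x + φ x := fun x => add_comm _ _
  refine ⟨LinearMap.range f, ?_, ?_⟩
  · rintro _ ⟨x, rfl⟩
    have h1 : QuadraticMap.polar Q (g x) (φ x) = 0 := (φ x).2 _ (h x x.2)
    rw [hf, H12.Q_add, h1, hφ, PQ.mem_isom_ofQuad.1 hg]
    ring
  · rw [LinearMap.finrank_range_of_inj]
    · have := finrank_perp hQ W
      rw [← hW'] at this
      omega
    · rw [← LinearMap.ker_eq_bot, eq_bot_iff]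
      intro x hx
      rw [LinearMap.mem_ker, hf] at hx
      have h1 : g x ∈ W ⊓ W' := ⟨h x x.2, by
        rw [eq_neg_of_add_eq_zero_left hx]; exact W'.neg_mem (φ x).2⟩
      rw [hW, Submodule.mem_bot] at h1
      simpa using h1

end General

section Matrix

variable {F : Type*} [Field F] {ι : Type} [Fintype ι] [DecidableEq ι]

theorem irr_or_plus [Fintype F] {Q : QuadraticForm F (ι → F)} (hQ : (PQ.ofQuad Q).B.SeparatingLeft)
    {W : Submodule F (ι → F)} (hW : W ⊓ perp (PQ.ofQuad Q) W = ⊥) :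
    Irr (PQ.ofQuad Q) W ∨ (Fintype.card F ≤ 3 ∧ finrank F W = 2 ∧ Geo.IsPlusTypeOn Q W) := by
  refine (irr_or hQ hW).imp_right fun ⟨_, h2, ⟨e, he, he0, hq⟩, h3⟩ =>
    ⟨card_le_three_of_sq h3, h2, F ∙ e, (Submodule.span_singleton_le_iff_mem _ _).2 he, ?_, ?_⟩
  · intro w hw
    obtain ⟨a, rfl⟩ := Submodule.mem_span_singleton.1 hw
    exact (PQ.ofQuad Q).q_smul_mem hq a
  · rw [finrank_span_singleton he0, h2]

theorem nondegOn_quad {Q : QuadraticForm F (ι → F)} {W : Submodule F (ι → F)} :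
    Geo.IsNondegenerateOn (QuadraticMap.polar Q) W ↔ W ⊓ perp (PQ.ofQuad Q) W = ⊥ :=
  nondegOn_iff (P := PQ.ofQuad Q) (f := QuadraticMap.polar Q) fun _ _ => Iff.rfl

theorem nondegOn_sp {m : ℕ} {W : Submodule F (Fin m ⊕ Fin m → F)} :
    Geo.IsNondegenerateOn (sympForm m F) W ↔ W ⊓ perp (spP m F) W = ⊥ :=
  nondegOn_iff (P := spP m F) (f := sympForm m F) fun _ _ => Iff.rfl

theorem nondegOn_u [Fintype F] {n q : ℕ} [H11.U.IsSq F q] {W : Submodule F (Fin n → F)} :
    Geo.IsNondegenerateOn (hermForm n F q) W ↔ W ⊓ perp (uP n F q) W = ⊥ :=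
  nondegOn_iff fun _ _ => H11.U.form_eq_zero_comm

theorem spP_lambda (m : ℕ) : ∃ l ∈ (spP m F).Λ, l ≠ 0 := ⟨1, trivial, one_ne_zero⟩

theorem uP_lambda [Fintype F] {n q : ℕ} [H11.U.IsSq F q] : ∃ l ∈ (uP n F q).Λ, l ≠ 0 := by
  obtain ⟨a, ha⟩ := H11.U.exists_cj_ne F q
  refine ⟨a - H11.U.cj q a, ?_, sub_ne_zero.2 (Ne.symm ha)⟩
  exact mem_traceZero.2 (by rw [map_sub, H11.U.cj_cj]; ring)

end Matrix

end H97
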