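import Mathlib
import Cfsg.Agent.Base
import Cfsg.Agent.Lib.ClassMax.Orth

/-!
Stabilisers of decompositions, and similarity groups.
-/

set_option autoImplicit false
set_option linter.unusedSectionVars false

namespace H97

open Module Cfsg H28

section General

variable {F V : Type*} [Field F] [AddCommGroup V] [Module F V] {κ : Type*}

theorem map_mul_le (W : Submodule F V) (a b : V ≃ₗ[F] V) :
    W.map ((a * b : V ≃ₗ[F] V) : V →ₗ[F] V) = (W.map (b : V →ₗ[F] V)).map (a : V →ₗ[F] V) := by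
  rw [← Submodule.map_comp]; rfl

theorem map_one_le (W : Submodule F V) : W.map ((1 : V ≃ₗ[F] V) : V →ₗ[F] V) = W :=
  Submodule.map_id W

theorem map_inv_le {W W' : Submodule F V} {a : V ≃ₗ[F] V} (h : W.map (a : V →ₗ[F] V) = W') :
    W'.map ((a⁻¹ : V ≃ₗ[F] V) : V →ₗ[F] V) = W := by
  rw [← h, ← map_mul_le, inv_mul_cancel, map_one_le]

theorem mem_map_le {W : Submodule F V} {a : V ≃ₗ[F] V} {x : V} :
    a x ∈ W.map (a : V →ₗ[F] V) ↔ x ∈ W :=
  ⟨fun ⟨_, hy, e⟩ => a.injective e ▸ hy, fun h => ⟨x, h, rfl⟩⟩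

theorem mem_map_le' {W : Submodule F V} {a : V ≃ₗ[F] V} {x : V} :
    x ∈ W.map (a : V →ₗ[F] V) ↔ a⁻¹ x ∈ W := by
  rw [← mem_map_le (a := a) (x := a⁻¹ x), le_apply_inv]

/-- The stabiliser of a family of subspaces. -/
def dstab (D : κ → Submodule F V) : Subgroup (V ≃ₗ[F] V) where
  carrier := {g | ∃ π : Equiv.Perm κ, ∀ i, (D i).map (g : V →ₗ[F] V) = D (π i)}
  mul_mem' := by
    rintro a b ⟨π, hπ⟩ ⟨τ, hτ⟩
    exact ⟨π * τ, fun i => by rw [map_mul_le, hτ, hπ]; rfl⟩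
  one_mem' := ⟨1, fun i => map_one_le _⟩
  inv_mem' := by
    rintro a ⟨π, hπ⟩
    exact ⟨π⁻¹, fun i => map_inv_le (by rw [hπ]; simp)⟩

theorem mem_dstab {D : κ → Submodule F V} {g : V ≃ₗ[F] V} :
    g ∈ dstab D ↔ ∃ π : Equiv.Perm κ, ∀ i, (D i).map (g : V →ₗ[F] V) = D (π i) := Iff.rfl

theorem mem_dstab_of_stab {D : κ → Submodule F V} {g : V ≃ₗ[F] V} (h : ∀ i, g ∈ stab (D i)) :
    g ∈ dstab D := ⟨1, fun i => mem_stab_iff_map.1 (h i)⟩

theorem map_eq_of_maps [FiniteDimensional F V] {W W' : Submodule F V} {g : V ≃ₗ[F] V}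
    (h : ∀ x ∈ W, g x ∈ W') (hd : finrank F W' ≤ finrank F W) : W.map (g : V →ₗ[F] V) = W' := by
  refine Submodule.eq_of_le_of_finrank_le ?_ (by rwa [LinearEquiv.finrank_map_eq])
  rintro _ ⟨x, hx, rfl⟩
  exact h x hx

/-- Membership in the stabiliser of a finite family of distinct subspaces of equal dimension. -/
theorem mem_dstab_of_maps [FiniteDimensional F V] [Finite κ] {D : κ → Submodule F V}
    (hinj : Function.Injective D) (hd : ∀ i j, finrank F (D i) = finrank F (D j))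
    {g : V ≃ₗ[F] V} (h : ∀ i, ∃ j, ∀ x ∈ D i, g x ∈ D j) : g ∈ dstab D := by
  choose π hπ using h
  have h1 : ∀ i, (D i).map (g : V →ₗ[F] V) = D (π i) := fun i => map_eq_of_maps (hπ i) (hd _ _).le
  have h2 : Function.Injective π := fun i j hij => hinj (by
    rw [← map_inv_le (h1 i), ← map_inv_le (h1 j), hij])
  exact ⟨Equiv.ofBijective π (Finite.injective_iff_bijective.1 h2), h1⟩

theorem injective_of_indep {D : κ → Submodule F V} (h : iSupIndep D) (h0 : ∀ i, D i ≠ ⊥) :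
    Function.Injective D := h.injective h0

theorem mem_dstab_two {D : Fin 2 → Submodule F V} {g : V ≃ₗ[F] V} :
    g ∈ dstab D ↔ (g ∈ stab (D 0) ∧ g ∈ stab (D 1)) ∨
      ((D 0).map (g : V →ₗ[F] V) = D 1 ∧ (D 1).map (g : V →ₗ[F] V) = D 0) := by
  constructor
  · rintro ⟨π, hπ⟩
    have h01 : π 0 ≠ π 1 := fun h => absurd (π.injective h) (by decide)
    have h0 := hπ 0
    have h1 := hπ 1
    generalize π 0 = a at *
    generalize π 1 = b at *
    fin_cases a <;> fin_cases b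
    · exact absurd rfl h01
    · exact Or.inl ⟨mem_stab_iff_map.2 h0, mem_stab_iff_map.2 h1⟩
    · exact Or.inr ⟨h0, h1⟩
    · exact absurd rfl h01
  · rintro (⟨h0, h1⟩ | ⟨h0, h1⟩)
    · exact mem_dstab_of_stab (Fin.forall_fin_two.2 ⟨h0, h1⟩)
    · exact ⟨Equiv.swap 0 1, Fin.forall_fin_two.2 ⟨by simpa using h0, by simpa using h1⟩⟩

theorem iSup_two (D : Fin 2 → Submodule F V) : iSup D = D 0 ⊔ D 1 := by
  apply le_antisymm
  · exact iSup_le (Fin.forall_fin_two.2 ⟨le_sup_left, le_sup_right⟩)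
  · exact sup_le (le_iSup D 0) (le_iSup D 1)

/-- The similarity group of a two-argument form. -/
def simG (f : V → V → F) : Subgroup (V ≃ₗ[F] V) where
  carrier := {g | ∃ c : Fˣ, ∀ u v, f (g u) (g v) = c * f u v}
  mul_mem' := by
    rintro a b ⟨c, hc⟩ ⟨d, hd⟩
    exact ⟨c * d, fun u v => by rw [le_mul_apply, le_mul_apply, hc, hd, Units.val_mul, mul_assoc]⟩
  one_mem' := ⟨1, fun u v => by simp⟩
  inv_mem' := by
    rintro a ⟨c, hc⟩
    refine ⟨c⁻¹, fun u v => ?_⟩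
    have := hc (a⁻¹ u) (a⁻¹ v)
    rw [le_apply_inv, le_apply_inv] at this
    rw [this, Units.inv_mul_cancel_left]

/-- The similarity group of a one-argument form. -/
def qsimG (Q : V → F) : Subgroup (V ≃ₗ[F] V) := simG fun u _ => Q u

theorem mem_simG {f : V → V → F} {g : V ≃ₗ[F] V} :
    g ∈ simG f ↔ ∃ c : F, c ≠ 0 ∧ ∀ u v, f (g u) (g v) = c * f u v :=
  ⟨fun ⟨c, hc⟩ => ⟨c, c.ne_zero, hc⟩, fun ⟨c, h0, hc⟩ => ⟨Units.mk0 c h0, hc⟩⟩

theorem mem_qsimG {Q : V → F} {g : V ≃ₗ[F] V} :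
    g ∈ qsimG Q ↔ ∃ c : F, c ≠ 0 ∧ ∀ u, Q (g u) = c * Q u :=
  mem_simG.trans ⟨fun ⟨c, h0, hc⟩ => ⟨c, h0, fun u => hc u u⟩,
    fun ⟨c, h0, hc⟩ => ⟨c, h0, fun u _ => hc u⟩⟩

variable {σ : F →+* F} {P : PQ F V σ} [FiniteDimensional F V]

theorem eq_perp_of_orth {W W' : Submodule F V} (hW : W ⊓ perp P W = ⊥) (h : W' ≤ perp P W)
    (htop : W ⊔ W' = ⊤) : W' = perp P W := by
  refine le_antisymm h fun x hx => ?_
  obtain ⟨a, ha, b, hb, rfl⟩ := Submodule.mem_sup.1 (htop ▸ Submodule.mem_top : x ∈ W ⊔ W')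
  have : a ∈ W ⊓ perp P W := ⟨ha, ((perp P W).add_mem_iff_left (h hb)).1 hx⟩
  rw [hW, Submodule.mem_bot] at this
  simpa [this] using hb

end General

section Matrix

variable {F : Type*} [Field F] {ι : Type} [Fintype ι] [DecidableEq ι]

theorem decompositionStabilizer_eq {t : ℕ} (D : Fin t → Submodule F (ι → F)) :
    Geo.decompositionStabilizer D = pull (dstab D) := rfl

theorem similarityGroup_eq (f : (ι → F) → (ι → F) → F) : Geo.similarityGroup f = pull (simG f) :=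
  rfl

theorem quadSimilarityGroup_eq (Q : (ι → F) → F) : Geo.quadSimilarityGroup Q = pull (qsimG Q) := by
  ext g
  exact ⟨fun ⟨c, hc⟩ => ⟨c, fun u _ => hc u⟩, fun ⟨c, hc⟩ => ⟨c, fun u => hc u u⟩⟩

theorem isometric_of_map {Q : QuadraticForm F (ι → F)} {W W' : Submodule F (ι → F)}
    {g : (ι → F) ≃ₗ[F] (ι → F)} (hg : g ∈ (PQ.ofQuad Q).Isom)
    (h : W.map (g : (ι → F) →ₗ[F] (ι → F)) = W') : Geo.AreIsometricFor Q W W' := by
  subst h
  exact ⟨g.submoduleMap W, fun w => PQ.mem_isom_ofQuad.1 hg w⟩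

theorem ne_bot_of_decomp {t k : ℕ} {D : Fin t → Submodule F (ι → F)} (h : Geo.IsMDecomposition k D)
    (i : Fin t) : D i ≠ ⊥ := by
  intro h0
  have := h.finrank_eq i
  rw [h0, finrank_bot] at this
  exact h.pos.ne this

end Matrix

end H97
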