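import Mathlib
import Cfsg.Agent.Base
import Cfsg.Agent.Lib.ClassMax.Decomp

/-!
Overgroups of `E` in the special linear group; orthogonal groups inside symplectic groups.
-/

set_option autoImplicit false
set_option linter.unusedSectionVars false

namespace H97

open Module Cfsg H28

variable {F V : Type*} [Field F] [AddCommGroup V] [Module F V] {σ : F →+* F} {P : PQ F V σ}
  [FiniteDimensional F V] {M : Subgroup (V ≃ₗ[F] V)}

theorem finrank_span_pair_le (x y : V) : finrank F (Submodule.span F ({x, y} : Set V)) ≤ 2 := by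
  classical
  exact (finrank_span_le_card (R := F) ({x, y} : Set V)).trans (by
    simpa using Finset.card_le_two)

theorem IsoK.pair1 {k : ℕ} (h : IsoK P k) (hP : P.B.SeparatingLeft) (hn : k + 2 ≤ finrank F V)
    (x : V) : ∃ e f, P.q e ∈ P.Λ ∧ P.q f ∈ P.Λ ∧ P.B e f = 1 ∧ P.B x e = 0 ∧ P.B x f = 0 := by
  obtain ⟨e, f, he, hf, hef, h1, h2⟩ := h.exists_pair hP (F ∙ x)
    (by have := finrank_span_singleton_le (F := F) x; omega)
  exact ⟨e, f, he, hf, hef, mem_perp_singleton.1 h1, mem_perp_singleton.1 h2⟩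

theorem IsoK.pair2 {k : ℕ} (h : IsoK P k) (hP : P.B.SeparatingLeft) (hn : k + 4 ≤ finrank F V)
    (x y : V) : ∃ e f, P.q e ∈ P.Λ ∧ P.q f ∈ P.Λ ∧ P.B e f = 1 ∧ (P.B x e = 0 ∧ P.B x f = 0) ∧
      (P.B y e = 0 ∧ P.B y f = 0) := by
  obtain ⟨e, f, he, hf, hef, h1, h2⟩ := h.exists_pair hP (Submodule.span F {x, y})
    (by have := finrank_span_pair_le (F := F) x y; omega)
  rw [mem_perp_span] at h1 h2
  exact ⟨e, f, he, hf, hef, ⟨h1 _ (by simp), h2 _ (by simp)⟩, h1 _ (by simp), h2 _ (by simp)⟩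

theorem IsoK.pair3 {k : ℕ} (h : IsoK P k) (hP : P.B.SeparatingLeft) (hn : k + 6 ≤ finrank F V)
    (x y z : V) : ∃ e f, P.q e ∈ P.Λ ∧ P.q f ∈ P.Λ ∧ P.B e f = 1 ∧ (P.B x e = 0 ∧ P.B x f = 0) ∧
      (P.B y e = 0 ∧ P.B y f = 0) ∧ (P.B z e = 0 ∧ P.B z f = 0) := by
  obtain ⟨e, f, he, hf, hef, h1, h2⟩ := h.exists_pair hP (Submodule.span F {x, y, z})
    (by have := finrank_span_triple_le (F := F) x y z; omega)
  rw [mem_perp_span] at h1 h2
  exact ⟨e, f, he, hf, hef, ⟨h1 _ (by simp), h2 _ (by simp)⟩, ⟨h1 _ (by simp), h2 _ (by simp)⟩,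
    h1 _ (by simp), h2 _ (by simp)⟩

theorem B_fe {e f : V} (hef : P.B e f = 1) : P.B f e = P.ε := by rw [P.symm, hef]; simp

theorem notMem_span_pair {u w d f : V} (hw : w ∉ F ∙ u) (hu : P.B f u = 0) (hw' : P.B f w = 0)
    (hd : P.B f d ≠ 0) : w ∉ Submodule.span F {u, d} := by
  intro h
  obtain ⟨a, b, rfl⟩ := Submodule.mem_span_pair.1 h
  simp only [map_add, map_smul, hu, smul_eq_mul, mul_zero, zero_add, mul_eq_zero] at hw'
  rw [hw'.resolve_right hd] at hw
  exact hw (by simpa using Submodule.smul_mem _ a (Submodule.mem_span_singleton_self u))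

theorem exists_B_eq (hP : P.B.SeparatingLeft) {H : Submodule F V} {u : V} (hu : u ∉ H) (a : F) :
    ∃ z, (∀ h ∈ H, P.B z h = 0) ∧ P.B z u = a := by
  obtain ⟨z, h1, h2⟩ := exists_orth_of_notMem P.σσ P.B hP H hu
  exact ⟨σ a • z, fun h hh => by rw [B_smul_left, h1 h hh, mul_zero],
    by rw [B_smul_left, h2, P.σσ, mul_one]⟩

theorem exists_B_eq' (hP : P.B.SeparatingLeft) {H : Submodule F V} {u : V} (hu : u ∉ H) (a : F) :
    ∃ z, (∀ h ∈ H, P.B h z = 0) ∧ P.B u z = a := by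
  obtain ⟨z, h1, h2⟩ := exists_B_eq hP hu (P.ε * σ a)
  refine ⟨z, fun h hh => P.eq_zero_symm (h1 h hh), ?_⟩
  rw [P.symm, h2, map_mul, P.σε, P.σσ, ← mul_assoc, P.εε, one_mul]

theorem cen_eq_top {k : ℕ} (h : IsoK P k) (hP : P.B.SeparatingLeft) (hn : k + 2 ≤ finrank F V)
    (hE : EG P ≤ M) {u : V} (hu : u ∈ cen M) (hu0 : u ≠ 0) : cen M = ⊤ := by
  by_contra h1
  exact h.not_EG_le_stab hP hn (W := cen M) (fun h0 => hu0 (by simpa [h0] using hu)) h1
    fun g hg => mem_stab_of_maps fun v hv => cen_apply hv (hE hg)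

/-- A group containing `E` and a transvection with independent centre and pole contains `SL`. -/
theorem IsoK.SLV_le_of_transvection {k : ℕ} (h : IsoK P k) (hP : P.B.SeparatingLeft)
    (hn : k + 6 ≤ finrank F V) (hE : EG P ≤ M) {u w : V} (hu0 : u ≠ 0) (hw : w ∉ F ∙ u)
    (hwu : P.B w u = 0) (hT : HasT M u (P.B w)) : SLV F V ≤ M := by
  have hadd : ∀ x y, P.B x u = 0 → HasT M u (P.B x) → HasT M u (P.B y) → HasT M u (P.B (x + y)) :=
    fun x y hx h1 h2 => by rw [map_add]; exact h1.add_right h2 hx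
  have step : ∀ w, w ∉ F ∙ u → P.B w u = 0 → HasT M u (P.B w) →
      ∀ x, P.B x u = 0 → P.B x w = 0 → HasT M u (P.B x) := by
    intro w hw hwu hT
    have s1 : ∀ d, P.q d ∈ P.Λ → P.B d u = 0 → P.B d w = 0 → w ∉ Submodule.span F {u, d} →
        ∀ a : F, HasT M u (P.B (a • d)) := by
      intro d hd hdu hdw hw' a
      obtain ⟨z, hz, hzw⟩ := exists_B_eq hP hw' a
      have hzu := hz u (Submodule.subset_span (by simp))
      have hzd := hz d (Submodule.subset_span (by simp))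
      obtain ⟨g, hg, e⟩ := has_eu_EG hd (P.eq_zero_symm hzd) (c := P.q z) (by simp)
      have h1 := hT.conj' (ψ := P.B (g w)) (hE hg) fun x => (EG_le_isom hg).1 w x
      rw [e u, eu_fix _ hdu hzu, e w, eu_apply, hdw, hzw] at h1
      have h2 := h1.sub_right hT (by simp [hwu, hdu]) hwu
      simpa using h2
    intro x hxu hxw
    obtain ⟨e, f, he, hf, hef, ⟨hue, huf⟩, ⟨hwe, hwf⟩, ⟨hxe, hxf⟩⟩ := h.pair3 hP hn u w x
    have heu := P.eq_zero_symm hue
    have hfu := P.eq_zero_symm huf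
    have hew := P.eq_zero_symm hwe
    have hfw := P.eq_zero_symm hwf
    have h1 := s1 (x + (e + (0 - P.q x) • f)) (by simpa using q_add_pair he hf hef hxe hxf 0)
      (by simp [hxu, heu, hfu]) (by simp [hxw, hew, hfw]) (notMem_span_pair hw hfu hfw (by
        simp [P.eq_zero_symm hxf, B_fe hef, P.self_eq_zero hf, P.ε_ne_zero])) 1
    have h2 := s1 e he heu hew (notMem_span_pair hw hfu hfw (by simp [B_fe hef, P.ε_ne_zero])) (-1)
    have h3 := s1 f hf hfu hfw (notMem_span_pair hw heu hew (by simp [hef])) (P.q x)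
    have h4 := hadd _ _ (by simp [hxu, heu, hfu]) (hadd _ _ (by simp [hxu, heu, hfu]) h1 h2) h3
    convert h4 using 2
    module
  obtain ⟨e, f, he, hf, hef, ⟨hue, huf⟩, ⟨hwe, hwf⟩⟩ := h.pair2 hP (by omega) u w
  have heu := P.eq_zero_symm hue
  have hfu := P.eq_zero_symm huf
  have he' : e ∉ F ∙ u := fun hh => by
    obtain ⟨a, rfl⟩ := Submodule.mem_span_singleton.1 hh
    simp [huf] at hef
  have hTe := step w hw hwu hT e heu (P.eq_zero_symm hwe)
  have hcen : u ∈ cen M := by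
    intro φ hφ
    obtain ⟨y, hy⟩ := exists_repr_dual P.σσ P.B hP φ
    obtain rfl : φ = P.B y := LinearMap.ext fun x => (hy x).symm
    obtain ⟨t, ht, htw⟩ := exists_B_eq hP (notMem_span_pair hw hfu (P.eq_zero_symm hwf)
      (d := e) (by simp [B_fe hef, P.ε_ne_zero])) (P.B y w)
    have htu := ht u (Submodule.subset_span (by simp))
    have hte := ht e (Submodule.subset_span (by simp))
    have := hadd _ _ htu (step e he' heu hTe t htu hte)
      (step w hw hwu hT (y - t) (by simp [hφ, htu]) (by simp [htw]))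
    simpa using this
  exact SLV_le_of_cen (cen_eq_top h hP (by omega) hE hcen hu0)

/-- A group containing `E` and a non-isometric transvection with equal centre and pole. -/
theorem IsoK.SLV_le_of_qrefl {k : ℕ} (h : IsoK P k) (hP : P.B.SeparatingLeft)
    (hn : k + 6 ≤ finrank F V) (hE : EG P ≤ M) {u : V} {c : F} (hu0 : u ≠ 0) (hu : P.q u ∈ P.Λ)
    (hc : c + P.ε * σ c ≠ 0) (hT : HasT M u (c • P.B u)) : SLV F V ≤ M := by
  have hall : ∀ v, v ≠ 0 → P.q v ∈ P.Λ → HasT M v (c • P.B v) := fun v hv0 hv => by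
    obtain ⟨g, hg, e⟩ := h.exists_EG_apply_eq hP (by omega) hu0 hv0 (P.Λ.sub_mem hu hv)
    rw [← e]
    exact hT.conj' (hE hg) fun x => by simp [(EG_le_isom hg).1]
  obtain ⟨e, f, he, hf, hef, hue, huf⟩ := h.pair1 hP (by omega) u
  have heu := P.eq_zero_symm hue
  have huu := P.self_eq_zero hu
  have hee := P.self_eq_zero he
  have he0 : e ≠ 0 := by rintro rfl; simp at hef
  have h1 := hall (u + e) (fun h0 => by
    have := congrArg (fun x => P.B x f) h0
    simp [huf, hef] at this) (sing_add hu he hue)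
  have h2 := hT.neg_right (by simp [huu])
  have h3 := (hall e he0 he).neg_right (by simp [hee])
  have h4 := (has_eu_EG hu (w := (P.ε * c) • e) (c := 0) (by simp [hue])
    (by simpa using P.q_smul_mem he _)).mono hE
  refine h.SLV_le_of_transvection hP hn hE hu0 (w := σ (c + P.ε * σ c) • e) (fun hh => ?_)
    (by simp [heu]) ((Has.comp h1 (Has.comp h2 (Has.comp h3 h4))).congr fun x => ?_)
  · obtain ⟨a, ha⟩ := Submodule.mem_span_singleton.1 hh
    have := congrArg (fun x => P.B x f) ha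
    simp only [B_smul_left, huf, hef, P.σσ, mul_zero, mul_one] at this
    exact hc this.symm
  · have hε := P.εε
    simp only [eu_apply, map_add, map_sub, map_smul, B_smul_left, LinearMap.add_apply,
      LinearMap.smul_apply, LinearMap.neg_apply, smul_eq_mul, huu, hee, hue, heu, map_mul, P.σσ,
      P.σε]
    match_scalars
    · ring
    · ring
    · linear_combination (-(c * P.B u x)) * hε

/-- A linear map with every singular vector as eigenvector is a scalar. -/
theorem IsoK.scalar_of_sing {k : ℕ} (h : IsoK P k) (hP : P.B.SeparatingLeft)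
    (hn : k + 4 ≤ finrank F V) {f : V →ₗ[F] V} (hf : ∀ u, P.q u ∈ P.Λ → f u ∈ F ∙ u) :
    ∃ a : F, ∀ x, f x = a • x := by
  have h1 : ∀ u v w (a b : F), P.q u ∈ P.Λ → P.q v ∈ P.Λ → P.B u v = 0 → P.B u w = 0 →
      P.B v w = 1 → f u = a • u → f v = b • v → f u = b • u := by
    intro u v w a b hu hv huv huw hvw ha hb
    obtain ⟨c, hc⟩ := Submodule.mem_span_singleton.1 (hf _ (sing_add hu hv huv))
    rw [map_add, ha, hb] at hc
    have h2 := congrArg (fun x => P.B x w) hc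
    simp only [map_add, B_smul_left, LinearMap.add_apply, huw, hvw, zero_add, mul_one,
      mul_zero] at h2
    obtain rfl : c = b := σ.injective h2
    rw [ha]
    linear_combination (norm := module) -hc
  obtain ⟨e₀, f₀, he₀, -, -, -, -⟩ := h.pair1 hP (by omega) 0
  by_cases h0 : ∀ u, P.q u ∈ P.Λ → u = 0
  · obtain ⟨e, f', he, -, hef, -, -⟩ := h.pair1 hP (by omega) 0
    simp [h0 e he] at hef
  push Not at h0
  obtain ⟨z, hz, hz0⟩ := h0
  obtain ⟨a, ha⟩ := Submodule.mem_span_singleton.1 (hf z hz)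
  have h2 : ∀ u, P.q u ∈ P.Λ → f u = a • u := by
    intro u hu
    obtain ⟨e, f', he, -, hef, ⟨hue, huf⟩, hze, hzf⟩ := h.pair2 hP hn u z
    obtain ⟨b, hb⟩ := Submodule.mem_span_singleton.1 (hf e he)
    obtain ⟨c, hc⟩ := Submodule.mem_span_singleton.1 (hf u hu)
    have h3 := h1 z e f' a b hz he hze hzf hef ha.symm hb.symm
    obtain rfl : a = b := smul_left_injective F hz0 (ha.trans h3)
    exact h1 u e f' c a hu he hue huf hef hc.symm hb.symm
  refine ⟨a, fun x => ?_⟩
  obtain ⟨e, f', he, hf', hef, hxe, hxf⟩ := h.pair1 hP (by omega) x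
  have h3 := h2 _ (by simpa using q_add_pair he hf' hef hxe hxf 0)
  simp only [map_add, map_neg, map_smul, h2 e he, h2 f' hf'] at h3
  linear_combination (norm := module) h3

/-- A second form on the space is represented by a linear map. -/
theorem exists_repr_form (hP : P.B.SeparatingLeft) (C : V →ₛₗ[σ] V →ₗ[F] F) :
    ∃ f : V →ₗ[F] V, ∀ x y, P.B (f x) y = C x y := by
  choose f hf using fun x => exists_repr_dual P.σσ P.B hP (C x)
  have hinj : ∀ x y, (∀ z, P.B x z = P.B y z) → x = y := fun x y h =>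
    sub_eq_zero.1 (hP _ fun z => by simp [h z])
  exact ⟨⟨⟨f, fun x y => hinj _ _ fun z => by simp [hf]⟩,
    fun a x => hinj _ _ fun z => by simp [hf, LinearMap.map_smulₛₗ]⟩, hf⟩

/-- A form `C` such that `C(u, ·)` is proportional to `B(u, ·)` for all singular `u` is a multiple
of `B`. -/
theorem IsoK.prop_of_sing {k : ℕ} (h : IsoK P k) (hP : P.B.SeparatingLeft)
    (hn : k + 4 ≤ finrank F V) (C : V →ₛₗ[σ] V →ₗ[F] F)
    (hC : ∀ u, P.q u ∈ P.Λ → ∀ x, P.B u x = 0 → C u x = 0) : ∃ a : F, ∀ x y, C x y = a * P.B x y := by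
  obtain ⟨f, hf⟩ := exists_repr_form hP C
  obtain ⟨a, ha⟩ := h.scalar_of_sing hP hn (f := f) fun u hu => by
    rw [← perp_perp hP (F ∙ u)]
    intro x hx
    exact P.eq_zero_symm (by rw [hf]; exact hC u hu x (mem_perp_singleton.1 hx))
  exact ⟨σ a, fun x y => by rw [← hf, ha, B_smul_left]⟩

/-- the form transported by `g` -/
def Bg (P : PQ F V σ) (g : V ≃ₗ[F] V) : V →ₛₗ[σ] V →ₗ[F] F :=
  (P.B.comp (g : V →ₗ[F] V)).compl₂ (g : V →ₗ[F] V)

theorem Bg_apply (g : V ≃ₗ[F] V) (x y : V) : Bg P g x y = P.B (g x) (g y) := rfl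

theorem mem_simG_of_prop (hP : P.B.SeparatingLeft) (hn : 1 ≤ finrank F V) {g : V ≃ₗ[F] V} {a : F}
    (ha : ∀ x y, P.B (g x) (g y) = a * P.B x y) : g ∈ simG fun x y => P.B x y := by
  refine mem_simG.2 ⟨a, fun h0 => ?_, ha⟩
  obtain ⟨x, -, hx⟩ := exists_ne_zero_mem (X := (⊤ : Submodule F V)) (by simpa using hn)
  refine hx (g.injective ?_)
  rw [map_zero]
  exact hP _ fun y => by rw [← le_apply_inv g y, ha, h0, zero_mul]

theorem IsoK.not_SLV_le_simG {k : ℕ} (h : IsoK P k) (hP : P.B.SeparatingLeft)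
    (hn : k + 4 ≤ finrank F V) : ¬ SLV F V ≤ simG fun x y => P.B x y := by
  intro hle
  obtain ⟨e, f, he, hf, hef, -, -⟩ := h.pair1 hP (by omega) 0
  obtain ⟨e', f', he', hf', hef', ⟨h1, h2⟩, h3, h4⟩ := h.pair2 hP hn e f
  obtain ⟨g, hg, eg⟩ := (hasT_SLV (u := e) (φ := P.B e') (P.eq_zero_symm h1)).elim
  obtain ⟨c, -, hc⟩ := mem_simG.1 (hle hg)
  have := hc f f'
  simp [eg, P.eq_zero_symm h3, hef', h4, B_fe hef, P.ε_ne_zero] at this

/-- Overgroups in `SL` of the similarity group, symplectic and unitary cases. -/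
theorem IsoK.isMaximalIn_simG {k : ℕ} (h : IsoK P k) (hP : P.B.SeparatingLeft)
    (hn : k + 6 ≤ finrank F V) (hΛ : ∃ l ∈ P.Λ, l ≠ 0) :
    Geo.IsMaximalIn (SLV F V) (simG (fun x y => P.B x y) ⊓ SLV F V) := by
  refine isMaximalIn_of inf_le_right
    (fun hle => h.not_SLV_le_simG hP (by omega) (hle.trans inf_le_left)) fun M h1 h2 ⟨g, hg, hg'⟩ => ?_
  have hE : EG P ≤ M := fun s hs =>
    h1 ⟨mem_simG.2 ⟨1, one_ne_zero, fun x y => by rw [(EG_le_isom hs).1, one_mul]⟩, EG_le_SLV hs⟩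
  by_contra hM
  obtain ⟨l, hl, hl0⟩ := hΛ
  obtain ⟨a, ha⟩ := h.prop_of_sing hP (by omega) (Bg P g) fun u hu x hux => by
    by_cases hu0 : u = 0
    · simp [hu0]
    have h3 : HasT M u ((-(P.ε * l)) • P.B u) :=
      ((has_eu_EG hu (w := 0) (c := l) (by simp) (P.Λ.sub_mem hl P.q_zero)).mono hE).congr
        fun x => by simp [eu_apply]
    have h4 := h3.conj hg
    obtain ⟨w, hw⟩ := exists_repr_dual P.σσ P.B hP (((-(P.ε * l)) • P.B u) ∘ₗ (g⁻¹ : V ≃ₗ[F] V))
    rw [← LinearMap.ext hw] at h4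
    have hw' : ∀ y, P.B w (g y) = -(P.ε * l) * P.B u y := fun y => by
      rw [hw]; simp
    have h5 : w ∈ F ∙ g u := by
      by_contra h5
      exact hM (h.SLV_le_of_transvection hP hn hE (by simpa using hu0) h5
        (by rw [hw', P.self_eq_zero hu, mul_zero]) h4)
    obtain ⟨b, rfl⟩ := Submodule.mem_span_singleton.1 h5
    have h6 := hw' x
    rw [hux, mul_zero, B_smul_left, mul_eq_zero] at h6
    refine h6.resolve_left fun hb => hu0 (hP u fun y => ?_)
    have h7 := hw' y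
    rw [B_smul_left, hb, zero_mul] at h7
    simpa [hl0, P.ε_ne_zero] using h7
  exact hg' ⟨mem_simG_of_prop hP (by omega) ha, h2 hg⟩

section Quad

variable {Q : QuadraticForm F V}

theorem qsimG_eq (h2 : (2 : F) ≠ 0) :
    qsimG (F := F) Q = simG fun x y => (PQ.ofQuad Q).B x y := by
  ext g
  rw [mem_qsimG, mem_simG]
  refine exists_congr fun c => and_congr_right fun _ => ⟨fun h x y => ?_, fun h x => ?_⟩
  · simp only [ofQuad_B, QuadraticMap.polar, ← map_add, h]
    ring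
  · have := h x x
    simp only [ofQuad_B, H12.B_self] at this
    apply mul_left_cancel₀ h2
    linear_combination this

theorem exists_nonsing_of_large (hQ : (PQ.ofQuad Q).B.SeparatingLeft) {X : Submodule F V}
    (hX : finrank F V < 2 * finrank F X) : ∃ y ∈ X, Q y ≠ 0 := by
  by_contra hc
  push Not at hc
  have := two_mul_finrank_le_of_ts hQ (polar_eq_zero_of_ts hc)
  omega

theorem has_refl_isom (hQ : (PQ.ofQuad Q).B.SeparatingLeft) {y : V} (hy : Q y ≠ 0) :
    Has (PQ.ofQuad Q).Isom ((PQ.ofQuad Q).qrefl (-(Q y)⁻¹) y) :=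
  has_qrefl_isom hQ (by
    change (-(Q y)⁻¹) * (-(Q y)⁻¹) * Q y + 1 * (-(Q y)⁻¹) = 0
    field_simp
    ring)

theorem det_refl {y : V} (hy : Q y ≠ 0) {s : V ≃ₗ[F] V}
    (hs : ∀ x, s x = (PQ.ofQuad Q).qrefl (-(Q y)⁻¹) y x) : LinearMap.det (s : V →ₗ[F] V) = -1 := by
  rw [det_of_rank_one (φ := (-(Q y)⁻¹) • (PQ.ofQuad Q).B y) (d := y)
    fun x => by rw [hs, PQ.qrefl_apply]; rfl]
  simp only [LinearMap.smul_apply, ofQuad_B, H12.B_self, smul_eq_mul]
  field_simp
  ring

theorem SLV_mul_of_det {s t : V ≃ₗ[F] V} (hs : LinearMap.det (s : V →ₗ[F] V) = -1)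
    (ht : LinearMap.det (t : V →ₗ[F] V) = -1) : s * t ∈ SLV F V := by
  rw [mem_SLV, show ((s * t : V ≃ₗ[F] V) : V →ₗ[F] V) = (s : V →ₗ[F] V) * t from rfl, map_mul,
    hs, ht]
  simp

/-- Overgroups in `SL` of the orthogonal similarity group, odd characteristic. -/
theorem isMaximalIn_qsimG [Finite F] (h2 : (2 : F) ≠ 0) (hQ : (PQ.ofQuad Q).B.SeparatingLeft)
    (hn : 9 ≤ finrank F V) : Geo.IsMaximalIn (SLV F V) (qsimG Q ⊓ SLV F V) := by
  set P := PQ.ofQuad Q with hPd
  have h : IsoK P 3 := isoK_quad Q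
  rw [qsimG_eq h2]
  refine isMaximalIn_of inf_le_right
    (fun hle => h.not_SLV_le_simG hQ (by omega) (hle.trans inf_le_left)) fun M h1 hM ⟨g, hg, hg'⟩ => ?_
  have hI : P.Isom ⊓ SLV F V ≤ M := fun s hs =>
    h1 ⟨mem_simG.2 ⟨1, one_ne_zero, fun x y => by rw [hs.1.1, one_mul]⟩, hs.2⟩
  have hE : EG P ≤ M := (le_inf EG_le_isom EG_le_SLV).trans hI
  by_cases hs : ∀ u, Q u = 0 → Q (g u) = 0
  · exfalso
    obtain ⟨a, ha⟩ := h.prop_of_sing hQ (by omega) (Bg P g) fun u hu x hux => by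
      have h3 : ∀ v, Q v = 0 → P.B u v = 0 → Bg P g u v = 0 := fun v hv huv => by
        rw [Bg_apply, ofQuad_B, QuadraticMap.polar, ← map_add, hs u hu, hs v hv,
          hs _ (sing_add (P := P) hu hv huv)]
        simp
      obtain ⟨e, f, he, hf, hef, ⟨hue, huf⟩, hxe, hxf⟩ := h.pair2 hQ (by omega) u x
      have h4 := h3 _ (sub_zero (Q _) ▸ q_add_pair he hf hef hxe hxf 0) (by simp [hux, hue, huf])
      simpa [h3 e he hue, h3 f hf huf] using h4
    exact hg' ⟨mem_simG_of_prop hQ (by omega) ha, hM hg⟩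
  push Not at hs
  obtain ⟨u, hu, hgu⟩ := hs
  have hu0 : u ≠ 0 := by rintro rfl; simp at hgu
  obtain ⟨v, f, hv, -, hvf, huv, huf⟩ := h.pair1 hQ (by omega) u
  have huu : P.B u u = 0 := P.self_eq_zero hu
  have hvv : P.B v v = 0 := P.self_eq_zero hv
  have hvu := P.eq_zero_symm huv
  obtain ⟨y, ⟨hy1, hy2⟩, hy⟩ := exists_nonsing_of_large hQ
    (X := perp P (Submodule.span F {g u, g v}) ⊓
      (perp P (Submodule.span F {u, v})).map (g : V →ₗ[F] V)) (by
      have h3 := finrank_inf_perp (P := P) ((perp P (Submodule.span F {u, v})).map (g : V →ₗ[F] V))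
        (Submodule.span F {g u, g v})
      have h4 := finrank_le_perp (P := P) (Submodule.span F {u, v})
      have h5 := finrank_span_pair_le (F := F) u v
      have h6 := finrank_span_pair_le (F := F) (g u) (g v)
      rw [LinearEquiv.finrank_map_eq, inf_comm] at h3
      omega)
  obtain ⟨y, hy2, rfl⟩ := hy2
  rw [LinearEquiv.coe_coe] at hy hy1
  have hy1' := mem_perp_span.1 hy1
  have hy2' := mem_perp_span.1 hy2
  obtain ⟨s, hs, es⟩ := has_refl_isom hQ hgu
  obtain ⟨t, ht, et⟩ := has_refl_isom hQ hy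
  have hst : s * t ∈ M := hI ⟨P.Isom.mul_mem hs ht, SLV_mul_of_det (det_refl hgu es) (det_refl hy et)⟩
  set z := g⁻¹ * (s * t) * g with hz
  have hzM : z ∈ M := M.mul_mem (M.mul_mem (M.inv_mem hg) hst) hg
  have hgz : ∀ x, g (z x) = s (t (g x)) := fun x => by
    rw [hz, le_mul_apply, le_mul_apply, le_mul_apply, le_apply_inv]
  have hzx : ∀ x, ∃ a b : F, z x = x + a • u + b • y := fun x => by
    refine ⟨-(Q (g u))⁻¹ * P.B (g u) (t (g x)), -(Q (g y))⁻¹ * P.B (g y) (g x), g.injective ?_⟩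
    have h3 := et (g x)
    rw [PQ.qrefl_apply] at h3
    rw [hgz, es, PQ.qrefl_apply, map_add, map_add, map_smul, map_smul]
    linear_combination (norm := module) h3
  have hyu : P.B (g y) (g u) = 0 := P.eq_zero_symm (hy1' _ (by simp))
  have hyv : P.B (g y) (g v) = 0 := P.eq_zero_symm (hy1' _ (by simp))
  have hzu : z u = -u := g.injective (by
    rw [hgz, et, PQ.qrefl_apply, hyu, mul_zero, zero_smul, add_zero, es, PQ.qrefl_apply, ofQuad_B,
      H12.B_self, map_neg]
    match_scalars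
    field_simp
    ring)
  obtain ⟨β, hzv⟩ : ∃ β : F, z v = v + β • u := ⟨_, g.injective (by
    rw [hgz, et, PQ.qrefl_apply, hyv, mul_zero, zero_smul, add_zero, es, PQ.qrefl_apply, map_add,
      map_smul])⟩
  have hzB : ∀ w x, P.B w u = 0 → P.B w y = 0 → P.B w (z⁻¹ x) = P.B w x := fun w x h1 h2 => by
    obtain ⟨a, b, h3⟩ := hzx (z⁻¹ x)
    rw [le_apply_inv] at h3
    conv_rhs => rw [h3]
    simp [h1, h2]
  have hzB1 := fun x => hzB u x huu (hy2' _ (by simp))
  have hzB2 := fun x => hzB v x hvu (hy2' _ (by simp))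
  have h3 := (has_eu_EG (P := P) (d := u) hu huv (c := 0) (by simpa using hv)).mono hE
  have h4 := (has_eu_EG (P := P) (d := u) hu (w := -v) (c := 0) (by simp [huv])
    (by simpa using P.q_smul_mem hv (-1))).mono hE
  refine h.SLV_le_of_transvection hQ (by omega) hE hu0 (w := -(2 : F) • v - β • u) (fun hh => ?_)
    (by simp [huu, hvu]) ((Has.comp (h3.conj hzM) h4).congr fun x => ?_)
  · obtain ⟨a, ha⟩ := Submodule.mem_span_singleton.1 hh
    have := congrArg (fun x => P.B x f) ha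
    simp [huf, hvf, h2] at this
  · have hε : P.ε = 1 := rfl
    simp only [eu_apply, map_add, map_sub, map_smul, map_neg, le_apply_inv, hzB1, hzB2, hzu, hzv,
      LinearMap.neg_apply, LinearMap.sub_apply, LinearMap.smul_apply, smul_eq_mul, huu, hvv, huv,
      hvu, hε]
    module

/-- The symplectic group is generated by its transvections. -/
theorem isom_le_of_transv {B : LinearMap.BilinForm F V} {hA : ∀ x, B x x = 0}
    (hB : B.SeparatingLeft) (h : ∀ (c : F) (d : V), HasT M d (c • B d)) :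
    (PQ.ofAlt B hA).Isom ≤ M := by
  rw [← EG_alt hB]
  refine EG_le fun d w c _ hw _ => ?_
  have hw1 : B d w = 0 := hw
  have hw2 : B w d = 0 := (PQ.ofAlt B hA).eq_zero_symm hw
  refine (Has.comp (h 1 (d + w)) (Has.comp (h (-1) w) (h (c - 1) d))).congr fun x => ?_
  rw [eu_apply]
  change _ = x + (B w x - (-1) * c * B d x) • d - ((-1) * B d x) • w
  simp only [map_add, map_smul, LinearMap.add_apply, LinearMap.smul_apply, hA, hw1, hw2,
    smul_eq_mul]
  module

theorem polar_alt (h2 : (2 : F) = 0) (x : V) : QuadraticMap.polarBilin Q x x = 0 := by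
  change QuadraticMap.polar Q x x = 0
  rw [H12.B_self, h2, zero_mul]

/-- Orthogonal groups are maximal in symplectic groups in characteristic two. -/
theorem isMaximalIn_O_Sp [Finite F] (h2 : (2 : F) = 0) (hQ : (PQ.ofQuad Q).B.SeparatingLeft)
    (hn : 7 ≤ finrank F V) :
    Geo.IsMaximalIn (PQ.ofAlt (QuadraticMap.polarBilin Q) (polar_alt h2)).Isom
      (PQ.ofQuad Q).Isom := by
  set P := PQ.ofQuad Q with hPd
  have h : IsoK P 3 := isoK_quad Q
  have hq : ∀ x, P.q x = Q x := fun _ => rfl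
  have hQa : ∀ x y, Q (x + y) = Q x + Q y + P.B x y := H12.Q_add Q
  have hBB : ∀ x, P.B x x = 0 := polar_alt h2
  have hcomm : ∀ x y, P.B x y = P.B y x := QuadraticMap.polar_comm Q
  refine isMaximalIn_of (fun g hg => PQ.mem_isom_ofAlt.2 hg.1) (fun hle => ?_)
    fun M h1 hM ⟨g, hg, hg'⟩ => ?_
  · obtain ⟨e, f, he, hf, hef, -, -⟩ := h.pair1 hQ (by omega) 0
    obtain ⟨s, hs, es⟩ := has_qrefl_isom (P := PQ.ofAlt (QuadraticMap.polarBilin Q) (polar_alt h2))
      hQ (c := 1) (d := e) trivial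
    have h3 := PQ.mem_isom_ofQuad.1 (hle hs) f
    have h4 : s f = f + e := by
      rw [es, PQ.qrefl_apply]
      change f + (1 * P.B e f) • e = _
      rw [hef]; simp
    rw [h4, hQa, hcomm, hef, show Q e = 0 from he] at h3
    simp at h3
  have hMB : ∀ g ∈ M, ∀ x y, P.B (g x) (g y) = P.B x y := fun g hg => PQ.mem_isom_ofAlt.1 (hM hg)
  have hS1 : ∀ w, Q w = 1 → HasT M w (P.B w) := fun w hw =>
    ((has_refl_isom hQ (y := w) (by simp [hw])).mono h1).congr fun x => by
      rw [PQ.qrefl_apply, hw]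
      match_scalars
      · rfl
      · linear_combination (-P.B w x) * h2
  have hSg : ∀ g ∈ M, ∀ w, HasT M w (P.B w) → HasT M (g w) (P.B (g w)) := fun g hg w hw =>
    hw.conj' hg fun x => hMB g hg w x
  have hpair : ∀ x e f, P.q e ∈ P.Λ → P.q f ∈ P.Λ → P.B e f = 1 → P.B x e = 0 → P.B x f = 0 →
      ∀ a, Q (x + (e + (a - Q x) • f)) = a := fun x e f he hf hef hxe hxf a =>
    sub_eq_zero.1 (q_add_pair he hf hef hxe hxf a)
  obtain ⟨w, hw, hgw⟩ : ∃ w, Q w = 1 ∧ Q (g w) ≠ 1 := by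
    by_contra hc
    push Not at hc
    have hadd : ∀ x y, Q (g x) = Q x → Q (g y) = Q y → Q (g (x + y)) = Q (x + y) :=
      fun x y hx hy => by rw [map_add, hQa, hQa, hx, hy, hMB g hg]
    have hsm : ∀ (a : F) x, Q (g x) = Q x → Q (g (a • x)) = Q (a • x) :=
      fun a x hx => by rw [map_smul, H12.Q_smul, H12.Q_smul, hx]
    have hs : ∀ x, Q x = 0 → Q (g x) = Q x := fun x hx => by
      obtain ⟨e, f, he, hf, hef, hxe, hxf⟩ := h.pair1 hQ (by omega) x
      have h3 := hpair x e f he hf hef hxe hxf 1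
      have h4 := hpair 0 e f he hf hef (by simp) (by simp) 1
      have h5 := hadd _ _ ((hc _ h3).trans h3.symm) (hsm (-1) _ ((hc _ h4).trans h4.symm))
      have h6 : x + (e + (1 - Q x) • f) + (-1 : F) • (0 + (e + (1 - Q 0) • f)) = x := by
        rw [hx, map_zero]; module
      rwa [h6] at h5
    refine hg' (PQ.mem_isom_ofQuad.2 fun x => ?_)
    obtain ⟨e, f, he, hf, hef, hxe, hxf⟩ := h.pair1 hQ (by omega) x
    have h5 := hadd _ _ (hadd _ _ (hs _ (hpair x e f he hf hef hxe hxf 0)) (hsm (-1) _ (hs e he)))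
      (hsm (Q x) _ (hs f hf))
    have h6 : x + (e + (0 - Q x) • f) + (-1 : F) • e + Q x • f = x := by module
    rwa [h6] at h5
  have hu := hSg g hg w (hS1 w hw)
  have hu0 : g w ≠ 0 := by
    rintro h0
    rw [map_eq_zero_iff _ g.injective] at h0
    simp [h0] at hw
  set u := g w
  have hall : ∀ x, HasT M x (P.B x) := by
    intro x
    by_cases hx : x = 0
    · rw [hx]; exact hasT_zero_left _
    obtain ⟨c, hc⟩ := exists_sq_eq_of_two_eq_zero h2 ((Q x + 1) / (Q u + 1))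
    have h3 : Q u + 1 ≠ 0 := fun h0 => hgw (by linear_combination h0 - h2)
    obtain ⟨y, -, hy⟩ := exists_B_eq' hQ (H := ⊥) (u := u) (by simpa using hu0) c
    obtain ⟨e, f, he, hf, hef, ⟨hue, huf⟩, hye, hyf⟩ := h.pair2 hQ (by omega) u y
    have h4 := hpair y e f he hf hef hye hyf 1
    obtain ⟨s, hs, es⟩ := hu.elim
    have h5 := hSg s hs _ (hS1 _ h4)
    have h6 : P.B u (y + (e + (1 - Q y) • f)) = c := by simp [hy, hue, huf]
    have h7 : Q (s (y + (e + (1 - Q y) • f))) = Q x := by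
      rw [es, hQa, h4, H12.Q_smul, map_smul, hcomm _ u, h6, smul_eq_mul]
      field_simp at hc
      linear_combination hc + h2
    obtain ⟨t, ht, et⟩ := h.exists_EG_apply_eq hQ (by omega)
      (x := s (y + (e + (1 - Q y) • f))) (y := x) (by
        rw [map_ne_zero_iff _ s.injective]
        intro h0
        simp [h0] at h4) hx (sub_eq_zero.2 h7)
    rw [← et]
    exact hSg t (h1 (EG_le_isom ht)) _ h5
  refine isom_le_of_transv hQ fun c d => ?_
  obtain ⟨a, rfl⟩ := exists_sq_eq_of_two_eq_zero h2 c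
  refine (hall (a • d)).congr fun x => ?_
  change x + P.B (a • d) x • a • d = x + (a ^ 2 * P.B d x) • d
  rw [B_smul_left, RingHom.id_apply]
  module

end Quad

end H97
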